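import Mathlib

/-!
Eigen-projections of one-parameter groups of operators, and the dimensions of their images.
-/

set_option autoImplicit false
set_option linter.unusedSectionVars false

namespace CfsgLib.Chev.G2Min

open Module

variable {F : Type*} [Field F] [Fintype F] {V : Type*} [AddCommGroup V] [Module ℂ V]
  [FiniteDimensional ℂ V]

/-- The dimension of the image. -/
noncomputable def dm (P : End ℂ V) : ℕ := finrank ℂ (LinearMap.range P)

theorem dm_trace {P : End ℂ V} (h : IsIdempotentElem P) : LinearMap.trace ℂ V P = (dm P : ℂ) :=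
  ((LinearMap.isProj_range_iff_isIdempotentElem P).2 h).trace

theorem dm_zero : dm (0 : End ℂ V) = 0 := by rw [dm, LinearMap.range_zero, finrank_bot]

theorem eq_zero_of_dm {P : End ℂ V} (h : dm P = 0) : P = 0 := by
  rwa [dm, Submodule.finrank_eq_zero, LinearMap.range_eq_bot] at h

theorem dm_pos {P : End ℂ V} (h : P ≠ 0) : 0 < dm P :=
  Nat.pos_of_ne_zero fun h0 => h (eq_zero_of_dm h0)

theorem dm_one : dm (1 : End ℂ V) = finrank ℂ V := by
  rw [dm, show (1 : End ℂ V) = LinearMap.id from rfl, LinearMap.range_id, finrank_top]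

theorem dm_conj {P : End ℂ V} (g g' : End ℂ V) (hP : IsIdempotentElem P) (h : g' * g = 1) :
    dm (g * P * g') = dm P := by
  have hQ : IsIdempotentElem (g * P * g') := by
    show g * P * g' * (g * P * g') = _
    calc g * P * g' * (g * P * g') = g * P * (g' * g) * (P * g') := by simp only [mul_assoc]
      _ = g * (P * P) * g' := by rw [h]; simp only [mul_one, mul_assoc]
      _ = _ := by rw [hP.eq]
  have e : LinearMap.trace ℂ V (g * P * g') = LinearMap.trace ℂ V P := by
    rw [mul_assoc, LinearMap.trace_mul_comm, mul_assoc, h, mul_one]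
  rw [dm_trace hQ, dm_trace hP] at e
  exact_mod_cast e

/-- An idempotent below another has smaller image. -/
theorem dm_le_of_mul {P Q : End ℂ V} (h : Q * P = P) : dm P ≤ dm Q :=
  Submodule.finrank_mono fun x ⟨y, hy⟩ => ⟨P y, by
    rw [← hy]; exact LinearMap.congr_fun h y⟩

theorem dm_mul_le {P Q : End ℂ V} (hPi : IsIdempotentElem P) : dm (P * Q) ≤ dm P :=
  dm_le_of_mul (by rw [← mul_assoc, hPi.eq])

theorem dm_sum {ι : Type*} (s : Finset ι) {P : End ℂ V} {Q : ι → End ℂ V} (hP : IsIdempotentElem P)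
    (hQ : ∀ i ∈ s, IsIdempotentElem (Q i)) (hsum : P = ∑ i ∈ s, Q i) : dm P = ∑ i ∈ s, dm (Q i) := by
  have e := congrArg (LinearMap.trace ℂ V) hsum
  rw [map_sum, dm_trace hP, Finset.sum_congr rfl fun i hi => dm_trace (hQ i hi), ← Nat.cast_sum] at e
  exact_mod_cast e

/-! ### One-parameter groups -/

/-- A one-parameter group of operators. -/
structure IsPar (X : F → End ℂ V) : Prop where
  zero : X 0 = 1
  add : ∀ a b, X (a + b) = X a * X b

variable (ψ : AddChar F ℂ)

/-- The projection on the character `t ↦ ψ (s t)`. -/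
noncomputable def pe (X : F → End ℂ V) (s : F) : End ℂ V :=
  (Fintype.card F : ℂ)⁻¹ • ∑ t, ψ (-(s * t)) • X t

variable {ψ} {X : F → End ℂ V}

theorem psi_sum (hψ : ψ.IsPrimitive) [DecidableEq F] (b : F) :
    ∑ t, ψ (b * t) = if b = 0 then (Fintype.card F : ℂ) else 0 := by
  simp only [mul_comm b]
  exact_mod_cast AddChar.sum_mulShift b hψ

theorem par_mul_pe (hX : IsPar X) (s b : F) : X b * pe ψ X s = ψ (s * b) • pe ψ X s := by
  rw [pe, mul_smul_comm, Finset.mul_sum, smul_comm (ψ (s * b))]
  congr 1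
  rw [Finset.smul_sum]
  refine Fintype.sum_equiv (Equiv.addLeft b) _ _ fun t => ?_
  simp only [Equiv.coe_addLeft, mul_smul_comm, ← hX.add, smul_smul]
  congr 1
  rw [← AddChar.map_add_eq_mul]
  congr 1
  ring

/-- On a space where the group acts by a character, the projections are trivial or zero. -/
theorem pe_mul_of_eigen (hψ : ψ.IsPrimitive) [DecidableEq F] {P : End ℂ V} {a : F}
    (hP : ∀ t, X t * P = ψ (a * t) • P) (s : F) : pe ψ X s * P = if s = a then P else 0 := by
  have : ∀ t, ψ (-(s * t)) • X t * P = ψ ((a - s) * t) • P := fun t => by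
    rw [smul_mul_assoc, hP, smul_smul, ← AddChar.map_add_eq_mul]
    congr 2
    ring
  rw [pe, smul_mul_assoc, Finset.sum_mul, Finset.sum_congr rfl fun t _ => this t, ← Finset.sum_smul,
    psi_sum hψ, smul_smul]
  by_cases h : s = a
  · rw [if_pos h, if_pos (by rw [h, sub_self]), inv_mul_cancel₀ (by simp), one_smul]
  · rw [if_neg h, if_neg (sub_ne_zero.2 (Ne.symm h)), mul_zero, zero_smul]

theorem eigen_of_pe_mul (hX : IsPar X) {P : End ℂ V} {a : F} (h : pe ψ X a * P = P) (t : F) :
    X t * P = ψ (a * t) • P := by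
  rw [← h, ← mul_assoc, par_mul_pe hX, smul_mul_assoc]

theorem pe_idem (hψ : ψ.IsPrimitive) (hX : IsPar X) (s : F) : IsIdempotentElem (pe ψ X s) := by
  classical
  show pe ψ X s * pe ψ X s = pe ψ X s
  rw [pe_mul_of_eigen hψ (fun t => par_mul_pe hX s t), if_pos rfl]

theorem pe_orth (hψ : ψ.IsPrimitive) (hX : IsPar X) {s u : F} (h : s ≠ u) :
    pe ψ X s * pe ψ X u = 0 := by
  classical
  rw [pe_mul_of_eigen hψ (fun t => par_mul_pe hX u t), if_neg h]

theorem pe_sum (hψ : ψ.IsPrimitive) (hX : IsPar X) : ∑ s, pe ψ X s = 1 := by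
  classical
  simp only [pe, ← Finset.smul_sum]
  rw [Finset.sum_comm]
  simp only [← Finset.sum_smul]
  have : ∀ t : F, ∑ s, ψ (-(s * t)) = if t = 0 then (Fintype.card F : ℂ) else 0 := fun t => by
    rw [← show (∑ s, ψ (-t * s)) = ∑ s, ψ (-(s * t)) from
      Finset.sum_congr rfl fun s _ => by congr 1; ring, psi_sum hψ]
    simp [neg_eq_zero]
  simp only [this, ite_smul, zero_smul, Finset.sum_ite_eq', Finset.mem_univ, if_true, hX.zero, smul_smul]
  rw [inv_mul_cancel₀ (by simp), one_smul]

theorem pe_commute {P : End ℂ V} (h : ∀ t, Commute P (X t)) (s : F) : Commute P (pe ψ X s) := by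
  refine Commute.smul_right ?_ _
  exact Commute.sum_right _ _ _ fun t _ => (h t).smul_right _

/-- Splitting the image of an idempotent along the characters. -/
theorem dm_split (hψ : ψ.IsPrimitive) (hX : IsPar X) {P : End ℂ V} (hP : IsIdempotentElem P)
    (hc : ∀ t, Commute P (X t)) : dm P = ∑ s, dm (P * pe ψ X s) :=
  dm_sum Finset.univ hP (fun s _ => hP.mul_of_commute (pe_commute hc s) (pe_idem hψ hX s))
    (by rw [← Finset.mul_sum, pe_sum hψ hX, mul_one])

/-- The shift lemma: transport of a projection by a conjugation. -/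
theorem pe_conj {X' : F → End ℂ V} {g g' P : End ℂ V} {c δ : F} (hc : c ≠ 0)
    (hl : ∀ t, g * X t * g' * P = ψ (δ * t) • (X' (c * t) * P)) (s : F) :
    g * pe ψ X s * g' * P = pe ψ X' ((s - δ) / c) * P := by
  simp only [pe, mul_smul_comm, smul_mul_assoc, Finset.mul_sum, Finset.sum_mul]
  congr 1
  refine Fintype.sum_equiv (Equiv.mulLeft₀ c hc) _ _ fun t => ?_
  rw [Equiv.mulLeft₀_apply, hl, smul_smul, ← AddChar.map_add_eq_mul]
  congr 2
  field_simp
  ring

end CfsgLib.Chev.G2Min
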