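import Mathlib
import Cfsg.Agent.Lib.Chev.G2InvolBasic
import Cfsg.Agent.Lib.Chev.SimpleTables
import Cfsg.Agent.Lib.KnownB.G2SL3

/-!
Relations between the root elements of the group of type G2: `a = 7` short, `b = 6` long.
-/

set_option autoImplicit false
set_option linter.unusedSectionVars false
set_option maxRecDepth 100000

namespace CfsgLib.Chev.G2Min

open Cfsg.Lie

variable {F : Type*} [Field F]

theorem hc : HasComm chevG2 := hasComm_of_mem (by simp)

theorem mem_all (r : ℕ) (t : F) : goodG2.xG r t ∈ chevG2.group F := by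
  by_cases hr : r < chevG2.nroots
  · exact goodG2.xG_mem_group hr t
  · have : goodG2.xG r t = 1 := Units.ext (Good.x_out (D := chevG2) hr t)
    rw [this]; exact one_mem _

/-- A root element in the group. -/
noncomputable def x (r : ℕ) (t : F) : ↥(chevG2.group F) := ⟨goodG2.xG r t, mem_all r t⟩

theorem x_add (r : ℕ) (s t : F) : x r s * x r t = x r (s + t) := Subtype.ext (goodG2.xG_add r s t)

theorem x_zero (r : ℕ) : x r (0 : F) = 1 := Subtype.ext (goodG2.xG_zero r)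

theorem x_inv (r : ℕ) (t : F) : (x r t)⁻¹ = x r (-t) :=
  inv_eq_of_mul_eq_one_right (by rw [x_add, add_neg_cancel, x_zero])

theorem conj_eq {r s : ℕ} (hr : r < chevG2.nroots) (hs : s < chevG2.nroots) (hrs : r ≠ s)
    (hneg : r ≠ chevG2.neg s) (t u : F) (l : List (ℕ × ℤ × ℕ × ℕ)) (hl : chevG2.commTerms s r = l) :
    x s u * x r t * (x s u)⁻¹ =
      x r t * (l.map fun c => x c.1 ((c.2.1 : F) * u ^ c.2.2.1 * t ^ c.2.2.2)).prod := by
  refine Subtype.ext ?_
  have h := goodG2.xG_conj hc hr hs hrs hneg t u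
  rw [hl] at h
  simp only [Subgroup.coe_mul, Subgroup.coe_inv, x, h, Subgroup.val_list_prod, List.map_map]
  rfl

theorem comm_of_nil {r s : ℕ} (hr : r < chevG2.nroots) (hs : s < chevG2.nroots) (hrs : r ≠ s)
    (hneg : r ≠ chevG2.neg s) (hl : chevG2.commTerms s r = []) (t u : F) :
    Commute (x s u) (x r t) := by
  have h := conj_eq hr hs hrs hneg t u [] hl
  rw [List.map_nil, List.prod_nil, mul_one, mul_inv_eq_iff_eq_mul] at h
  exact h

/-- Pairs of commuting root subgroups. -/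
theorem x_comm {r s : ℕ} (h : (s, r) ∈ [(7, 10), (7, 11), (8, 6), (8, 10), (8, 11), (9, 6), (9, 10),
      (9, 11), (6, 11), (10, 11), (6, 8), (6, 9), (10, 7), (11, 7), (10, 8), (11, 8), (10, 9), (11, 9),
      (11, 6), (11, 10)]) (t u : F) : Commute (x s u) (x r t) := by
  simp only [List.mem_cons, Prod.mk.injEq, List.not_mem_nil, or_false] at h
  rcases h with ⟨rfl, rfl⟩ | ⟨rfl, rfl⟩ | ⟨rfl, rfl⟩ | ⟨rfl, rfl⟩ | ⟨rfl, rfl⟩ | ⟨rfl, rfl⟩ | ⟨rfl, rfl⟩ |
      ⟨rfl, rfl⟩ | ⟨rfl, rfl⟩ | ⟨rfl, rfl⟩ | ⟨rfl, rfl⟩ | ⟨rfl, rfl⟩ | ⟨rfl, rfl⟩ | ⟨rfl, rfl⟩ |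
      ⟨rfl, rfl⟩ | ⟨rfl, rfl⟩ | ⟨rfl, rfl⟩ | ⟨rfl, rfl⟩ | ⟨rfl, rfl⟩ | ⟨rfl, rfl⟩ <;>
    exact comm_of_nil (by decide) (by decide) (by decide) (by decide +kernel) (by decide +kernel) t u

theorem c6_10 (u t : F) : x 6 u * x 10 t * (x 6 u)⁻¹ = x 10 t * x 11 (u * t) := by
  rw [conj_eq (r := 10) (s := 6) (by decide) (by decide) (by decide) (by decide +kernel) t u
    [(11, 1, 1, 1)] (by decide +kernel)]
  simp

theorem c10_6 (u t : F) : x 10 u * x 6 t * (x 10 u)⁻¹ = x 6 t * x 11 (-(u * t)) := by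
  rw [conj_eq (r := 6) (s := 10) (by decide) (by decide) (by decide) (by decide +kernel) t u
    [(11, -1, 1, 1)] (by decide +kernel)]
  simp

theorem c7_6 (u t : F) : x 7 u * x 6 t * (x 7 u)⁻¹ =
    x 6 t * (x 8 (-(u * t)) * (x 9 (u ^ 2 * t) * (x 10 (u ^ 3 * t) * x 11 (u ^ 3 * t ^ 2)))) := by
  rw [conj_eq (r := 6) (s := 7) (by decide) (by decide) (by decide) (by decide +kernel) t u
    [(8, -1, 1, 1), (9, 1, 2, 1), (10, 1, 3, 1), (11, 1, 3, 2)] (by decide +kernel)]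
  simp

theorem c6_7 (u t : F) : x 6 u * x 7 t * (x 6 u)⁻¹ =
    x 7 t * (x 8 (u * t) * (x 9 (u * t ^ 2) * (x 10 (-(u * t ^ 3)) * x 11 (-(2 * u ^ 2 * t ^ 3))))) := by
  rw [conj_eq (r := 7) (s := 6) (by decide) (by decide) (by decide) (by decide +kernel) t u
    [(8, 1, 1, 1), (9, 1, 1, 2), (10, -1, 1, 3), (11, -2, 2, 3)] (by decide +kernel)]
  simp

theorem c7_8 (u t : F) : x 7 u * x 8 t * (x 7 u)⁻¹ =
    x 8 t * (x 9 (-(2 * u * t)) * (x 10 (-(3 * u ^ 2 * t)) * x 11 (3 * u * t ^ 2))) := by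
  rw [conj_eq (r := 8) (s := 7) (by decide) (by decide) (by decide) (by decide +kernel) t u
    [(9, -2, 1, 1), (10, -3, 2, 1), (11, 3, 1, 2)] (by decide +kernel)]
  simp

theorem c7_9 (u t : F) : x 7 u * x 9 t * (x 7 u)⁻¹ = x 9 t * x 10 (3 * u * t) := by
  rw [conj_eq (r := 9) (s := 7) (by decide) (by decide) (by decide) (by decide +kernel) t u
    [(10, 3, 1, 1)] (by decide +kernel)]
  simp

theorem c8_9 (u t : F) : x 8 u * x 9 t * (x 8 u)⁻¹ = x 9 t * x 11 (3 * u * t) := by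
  rw [conj_eq (r := 9) (s := 8) (by decide) (by decide) (by decide) (by decide +kernel) t u
    [(11, 3, 1, 1)] (by decide +kernel)]
  simp

theorem c4_10 (u t : F) : x 4 u * x 10 t * (x 4 u)⁻¹ =
    x 10 t * (x 9 (u * t) * (x 8 (-(u ^ 2 * t)) * (x 6 (u ^ 3 * t) * x 11 (-(u ^ 3 * t ^ 2))))) := by
  rw [conj_eq (r := 10) (s := 4) (by decide) (by decide) (by decide) (by decide +kernel) t u
    [(9, 1, 1, 1), (8, -1, 2, 1), (6, 1, 3, 1), (11, -1, 3, 2)] (by decide +kernel)]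
  simp

theorem c4_9 (u t : F) : x 4 u * x 9 t * (x 4 u)⁻¹ =
    x 9 t * (x 8 (-(2 * u * t)) * (x 6 (3 * u ^ 2 * t) * x 11 (-(3 * u * t ^ 2)))) := by
  rw [conj_eq (r := 9) (s := 4) (by decide) (by decide) (by decide) (by decide +kernel) t u
    [(8, -2, 1, 1), (6, 3, 2, 1), (11, -3, 1, 2)] (by decide +kernel)]
  simp

theorem c4_8 (u t : F) : x 4 u * x 8 t * (x 4 u)⁻¹ = x 8 t * x 6 (-(3 * u * t)) := by
  rw [conj_eq (r := 8) (s := 4) (by decide) (by decide) (by decide) (by decide +kernel) t u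
    [(6, -3, 1, 1)] (by decide +kernel)]
  simp

theorem c4_11 (u t : F) : Commute (x 4 u) (x 11 t) :=
  comm_of_nil (by decide) (by decide) (by decide) (by decide +kernel) (by decide +kernel) t u

theorem c4_6 (u t : F) : Commute (x 4 u) (x 6 t) :=
  comm_of_nil (by decide) (by decide) (by decide) (by decide +kernel) (by decide +kernel) t u

theorem c5_11 (u t : F) : x 5 u * x 11 t * (x 5 u)⁻¹ = x 11 t * x 10 (u * t) := by
  rw [conj_eq (r := 11) (s := 5) (by decide) (by decide) (by decide) (by decide +kernel) t u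
    [(10, 1, 1, 1)] (by decide +kernel)]
  simp

theorem c5_10 (u t : F) : Commute (x 5 u) (x 10 t) :=
  comm_of_nil (by decide) (by decide) (by decide) (by decide +kernel) (by decide +kernel) t u

/-! ### Weyl elements -/

/-- The Weyl representative of a simple root (`0 ↦ 7`, `1 ↦ 6`). -/
noncomputable def nw (r : ℕ) : ↥(chevG2.group F) := x r 1 * x (chevG2.neg r) (-1) * x r 1

theorem nw_conj {i s : ℕ} (hi : i < 2) (hs : s < 12) (s' : ℕ) (hs' : chevG2.reflectRoot i s = s') :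
    ∃ e : F, (e = 1 ∨ e = -1) ∧
      ∀ t, nw (chevG2.simple i) * x s t * (nw (chevG2.simple i))⁻¹ = x s' (e * t) := by
  refine ⟨(goodG2.eta i s : F), ?_, fun t => Subtype.ext ?_⟩
  · rcases goodG2.eta_sign (i := i) (s := s) hi hs with h | h <;> rw [h] <;> simp
  · have h := goodG2.nG_conj_xG (F := F) (i := i) (s := s) hi hs t
    rw [hs', Good.nG] at h
    simpa [nw, x] using h

theorem simple0 : chevG2.simple 0 = 7 := by decide +kernel

theorem simple1 : chevG2.simple 1 = 6 := by decide +kernel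

theorem n7_conj : ∀ s s', (s, s') ∈ [(6, 10), (10, 6), (8, 9), (9, 8), (11, 11), (5, 1), (7, 4), (0, 0)] →
    ∃ e : F, (e = 1 ∨ e = -1) ∧ ∀ t, nw 7 * x s t * (nw 7)⁻¹ = x s' (e * t) := by
  intro s s' h
  rw [← simple0]
  simp only [List.mem_cons, Prod.mk.injEq, List.not_mem_nil, or_false] at h
  rcases h with ⟨rfl, rfl⟩ | ⟨rfl, rfl⟩ | ⟨rfl, rfl⟩ | ⟨rfl, rfl⟩ | ⟨rfl, rfl⟩ | ⟨rfl, rfl⟩ | ⟨rfl, rfl⟩ |
      ⟨rfl, rfl⟩ <;> exact nw_conj (by decide) (by decide) _ (by decide +kernel)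

theorem n6_conj : ∀ s s', (s, s') ∈ [(10, 11), (11, 10), (7, 8), (8, 7), (9, 9), (6, 5)] →
    ∃ e : F, (e = 1 ∨ e = -1) ∧ ∀ t, nw 6 * x s t * (nw 6)⁻¹ = x s' (e * t) := by
  intro s s' h
  rw [← simple1]
  simp only [List.mem_cons, Prod.mk.injEq, List.not_mem_nil, or_false] at h
  rcases h with ⟨rfl, rfl⟩ | ⟨rfl, rfl⟩ | ⟨rfl, rfl⟩ | ⟨rfl, rfl⟩ | ⟨rfl, rfl⟩ | ⟨rfl, rfl⟩ <;>
    exact nw_conj (by decide) (by decide) _ (by decide +kernel)

/-! ### The torus -/

/-- Exponents of the roots `6, …` in terms of `(a, b)`. -/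
def co7 (r : ℕ) : ℤ := [-3, -3, -2, -1, -1, 0, 0, 1, 1, 2, 3, 3].getD r 0

/-- The coefficient of `b`. -/
def co6 (r : ℕ) : ℤ := [-2, -1, -1, -1, 0, -1, 1, 0, 1, 1, 1, 2].getD r 0

/-- The torus element acting by `x` on the root `a = 7` and by `y` on `b = 6`. -/
noncomputable def tau (a b : Fˣ) : ↥(chevG2.group F) :=
  ⟨goodG2.hG 6 (a * b) * goodG2.hG 10 (a * a * b),
    goodG2.diagonal_le_group (mul_mem (goodG2.hG_mem (by decide) _) (goodG2.hG_mem (by decide) _))⟩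

theorem pair_co : ∀ r < 12, pair chevG2 6 r + 2 * pair chevG2 10 r = co7 r ∧
    pair chevG2 6 r + pair chevG2 10 r = co6 r := by decide +kernel

theorem tau_conj (a b : Fˣ) {r : ℕ} (hr : r < 12) (t : F) :
    tau a b * x r t * (tau a b)⁻¹ = x r (((a ^ co7 r * b ^ co6 r : Fˣ) : F) * t) := by
  refine Subtype.ext ?_
  simp only [tau, x, Subgroup.coe_mul, Subgroup.coe_inv]
  rw [show ∀ g h y : GL chevG2.Idx F, g * h * y * (g * h)⁻¹ = g * (h * y * h⁻¹) * g⁻¹ from
    fun g h y => by group, goodG2.hG_conj_xG hr, goodG2.hG_conj_xG hr]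
  congr 1
  rw [← mul_assoc, ← Units.val_mul]
  congr 2
  obtain ⟨h7, h6⟩ := pair_co r hr
  rw [← h7, ← h6, mul_zpow, mul_zpow, mul_zpow, _root_.zpow_add, _root_.zpow_add, two_mul, _root_.zpow_add]
  ac_rfl

/-! ### Generation, simplicity, long roots -/

theorem simple_group [Fintype F] (h3 : 3 < Fintype.card F) : IsSimpleGroup ↥(chevG2.group F) :=
  (simple_of_mem (D := chevG2) (F := F) (by simp) fun _ => by
    classical
    obtain ⟨a, ha⟩ := Finset.exists_mem_notMem_of_card_lt_card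
      (s := ({0, 1} : Finset F)) (t := Finset.univ) (by
        rw [Finset.card_univ]; exact lt_of_le_of_lt Finset.card_le_two (by omega))
    simp only [Finset.mem_insert, Finset.mem_singleton, not_or] at ha
    exact ⟨a, ha.2.1, ha.2.2⟩).1

theorem gen_simple (K : Subgroup ↥(chevG2.group F)) (h : ∀ r ∈ [7, 4, 6, 5], ∀ t, x r t ∈ K) : K = ⊤ := by
  have key : ∀ r < 12, ∀ t : F, x r t ∈ K := by
    have hn7 : nw 7 ∈ K := mul_mem (mul_mem (h 7 (by simp) _) (by
      rw [show chevG2.neg 7 = 4 from by decide +kernel]; exact h 4 (by simp) _)) (h 7 (by simp) _)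
    have hn6 : nw 6 ∈ K := mul_mem (mul_mem (h 6 (by simp) _) (by
      rw [show chevG2.neg 6 = 5 from by decide +kernel]; exact h 5 (by simp) _)) (h 6 (by simp) _)
    have step : ∀ {n : ↥(chevG2.group F)}, n ∈ K → ∀ {s' : ℕ} {s : ℕ}, (∀ t, x s t ∈ K) →
        (∃ e : F, (e = 1 ∨ e = -1) ∧ ∀ t, n * x s t * n⁻¹ = x s' (e * t)) → ∀ t, x s' t ∈ K := by
      rintro n hn s' s hs ⟨e, he, hh⟩ t
      have := hh (e * t)
      rw [← mul_assoc, show e * e = 1 by rcases he with rfl | rfl <;> ring, one_mul] at this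
      rw [← this]
      exact mul_mem (mul_mem hn (hs _)) (inv_mem hn)
    have k10 := step hn7 (h 6 (by simp)) (n7_conj 6 10 (by simp))
    have k11 := step hn6 k10 (n6_conj 10 11 (by simp))
    have k8 := step hn6 (h 7 (by simp)) (n6_conj 7 8 (by simp))
    have k9 := step hn7 k8 (n7_conj 8 9 (by simp))
    have k1 := step hn7 (h 5 (by simp)) (n7_conj 5 1 (by simp))
    have k0 := step (s' := 0) hn6 k1 (by
      rw [← simple1]; exact nw_conj (by decide) (by decide) _ (by decide +kernel))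
    have k3 := step (s' := 3) hn6 (h 4 (by simp)) (by
      rw [← simple1]; exact nw_conj (by decide) (by decide) _ (by decide +kernel))
    have k2 := step (s' := 2) hn7 k3 (by
      rw [← simple0]; exact nw_conj (by decide) (by decide) _ (by decide +kernel))
    intro r hr
    interval_cases r
    exacts [k0, k1, k2, k3, h 4 (by simp), h 5 (by simp), h 6 (by simp), h 7 (by simp), k8, k9, k10, k11]
  rw [eq_top_iff]
  intro g _
  have : chevG2.group F ≤ K.map (chevG2.group F).subtype :=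
    goodG2.group_le fun r hr t => ⟨x r t, key r hr t, rfl⟩
  obtain ⟨g', hg', e⟩ := this g.2
  rwa [← Subtype.ext e]

/-- The homomorphism on the long roots. -/
noncomputable def sl3 : Matrix.SpecialLinearGroup (Fin 3) F →* ↥(chevG2.group F) :=
  (KnownB.G2SL3.toG2).codRestrict _ KnownB.G2SL3.toG2_mem

theorem sl3_tv {i j : Fin 3} (h : i ≠ j) (t : F) :
    sl3 (Matrix.SpecialLinearGroup.transvection h t) =
      x (KnownB.G2SL3.rOf i j) ((KnownB.G2SL3.sgn i j : F) * t) :=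
  Subtype.ext (KnownB.G2SL3.toG2_transvection h t)

theorem long_mem_range {r : ℕ} (h : r ∈ [0, 1, 5, 6, 10, 11]) (t : F) :
    x r t ∈ (sl3 (F := F)).range := by
  simp only [List.mem_cons, List.not_mem_nil, or_false] at h
  rcases h with rfl | rfl | rfl | rfl | rfl | rfl
  · exact ⟨Matrix.SpecialLinearGroup.transvection (show (2 : Fin 3) ≠ 0 by decide) (-t),
      (sl3_tv _ _).trans (by simp [KnownB.G2SL3.rOf, KnownB.G2SL3.sgn])⟩
  · exact ⟨Matrix.SpecialLinearGroup.transvection (show (1 : Fin 3) ≠ 0 by decide) t,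
      (sl3_tv _ _).trans (by simp [KnownB.G2SL3.rOf, KnownB.G2SL3.sgn])⟩
  · exact ⟨Matrix.SpecialLinearGroup.transvection (show (2 : Fin 3) ≠ 1 by decide) t,
      (sl3_tv _ _).trans (by simp [KnownB.G2SL3.rOf, KnownB.G2SL3.sgn])⟩
  · exact ⟨Matrix.SpecialLinearGroup.transvection (show (1 : Fin 3) ≠ 2 by decide) t,
      (sl3_tv _ _).trans (by simp [KnownB.G2SL3.rOf, KnownB.G2SL3.sgn])⟩
  · exact ⟨Matrix.SpecialLinearGroup.transvection (show (0 : Fin 3) ≠ 1 by decide) t,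
      (sl3_tv _ _).trans (by simp [KnownB.G2SL3.rOf, KnownB.G2SL3.sgn])⟩
  · exact ⟨Matrix.SpecialLinearGroup.transvection (show (0 : Fin 3) ≠ 2 by decide) (-t),
      (sl3_tv _ _).trans (by simp [KnownB.G2SL3.rOf, KnownB.G2SL3.sgn])⟩

theorem nG_mem_range {r r' : ℕ} (h : r ∈ [0, 1, 5, 6, 10, 11]) (h' : r' ∈ [0, 1, 5, 6, 10, 11])
    (e : chevG2.neg r = r') (t : Fˣ) :
    ∃ y ∈ (sl3 (F := F)).range, (y : GL chevG2.Idx F) = goodG2.nG r t := by
  refine ⟨x r (t : F) * x r' (-((t⁻¹ : Fˣ) : F)) * x r (t : F),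
    mul_mem (mul_mem (long_mem_range h _) (long_mem_range h' _)) (long_mem_range h _), ?_⟩
  rw [Good.nG, e]; rfl

theorem tau_mem_range (a b : Fˣ) : tau a b ∈ (sl3 (F := F)).range := by
  obtain ⟨y₁, h₁, e₁⟩ := nG_mem_range (r := 6) (r' := 5) (by simp) (by simp) (by decide +kernel) (a * b)
  obtain ⟨y₂, h₂, e₂⟩ := nG_mem_range (r := 6) (r' := 5) (by simp) (by simp) (by decide +kernel) (-1 : Fˣ)
  obtain ⟨y₃, h₃, e₃⟩ := nG_mem_range (r := 10) (r' := 1) (by simp) (by simp) (by decide +kernel) (a * a * b)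
  obtain ⟨y₄, h₄, e₄⟩ := nG_mem_range (r := 10) (r' := 1) (by simp) (by simp) (by decide +kernel) (-1 : Fˣ)
  have : tau a b = y₁ * y₂ * (y₃ * y₄) := Subtype.ext (by
    simp only [tau, Subgroup.coe_mul, e₁, e₂, e₃, e₄]
    rw [goodG2.hG_eq (by decide), goodG2.hG_eq (by decide)])
  rw [this]
  exact mul_mem (mul_mem h₁ h₂) (mul_mem h₃ h₄)

end CfsgLib.Chev.G2Min
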