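import Mathlib
import Cfsg.Agent.Lib.Chev.G2Min.Proj
import Cfsg.Agent.Lib.Chev.G2Min.Rel

/-!
A representation of the group of type G2 and the projections belonging to its root subgroups.
-/

set_option autoImplicit false
set_option linter.unusedSectionVars false
set_option maxRecDepth 100000

namespace CfsgLib.Chev.G2Min

open Cfsg.Lie Module

variable (F : Type*) [Field F] [Fintype F] (V : Type*) [AddCommGroup V] [Module ℂ V]

/-- A non-trivial irreducible representation with an additive character of the field. -/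
structure Ctx where
  /-- the representation -/
  ρ : Representation ℂ ↥(chevG2.group F) V
  irr : ρ.IsIrreducible
  two_le : 2 ≤ finrank ℂ V
  four_le : 4 ≤ Fintype.card F
  /-- the additive character -/
  ψ : AddChar F ℂ
  hψ : ψ.IsPrimitive

variable {F V} [FiniteDimensional ℂ V]

namespace Ctx

variable (C : Ctx F V)

/-- The operators of a root subgroup. -/
noncomputable def X (r : ℕ) (t : F) : End ℂ V := C.ρ (x r t)

/-- The projection on a character of a root subgroup. -/
noncomputable def e (r : ℕ) (s : F) : End ℂ V := pe C.ψ (C.X r) s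

/-- Conjugation by a group element. -/
noncomputable def cj (g : ↥(chevG2.group F)) (A : End ℂ V) : End ℂ V := C.ρ g * A * C.ρ g⁻¹

theorem par (r : ℕ) : IsPar (C.X r) :=
  ⟨by simp only [X, x_zero, map_one], fun a b => by simp only [X, ← map_mul, x_add]⟩

theorem rho_inv (g : ↥(chevG2.group F)) : C.ρ g⁻¹ * C.ρ g = 1 := by
  rw [← map_mul, inv_mul_cancel, map_one]

theorem rho_inv' (g : ↥(chevG2.group F)) : C.ρ g * C.ρ g⁻¹ = 1 := by
  rw [← map_mul, mul_inv_cancel, map_one]

theorem e_idem (r : ℕ) (s : F) : IsIdempotentElem (C.e r s) := pe_idem C.hψ (C.par r) s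

theorem e_sum (r : ℕ) : ∑ s, C.e r s = 1 := pe_sum C.hψ (C.par r)

theorem e_orth (r : ℕ) {s u : F} (h : s ≠ u) : C.e r s * C.e r u = 0 := pe_orth C.hψ (C.par r) h

theorem e_comm_op {A : End ℂ V} {r : ℕ} (h : ∀ t, Commute A (C.X r t)) (s : F) :
    Commute A (C.e r s) := pe_commute h s

theorem e_comm_rho {g : ↥(chevG2.group F)} {r : ℕ} (h : ∀ t, Commute g (x r t)) (s : F) :
    Commute (C.ρ g) (C.e r s) := C.e_comm_op (fun t => (h t).map C.ρ) s

theorem X_comm {r r' : ℕ} (h : (r', r) ∈ [(7, 10), (7, 11), (8, 6), (8, 10), (8, 11), (9, 6), (9, 10),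
      (9, 11), (6, 11), (10, 11), (6, 8), (6, 9), (10, 7), (11, 7), (10, 8), (11, 8), (10, 9), (11, 9),
      (11, 6), (11, 10)]) (t u : F) : Commute (C.X r' u) (C.X r t) := (x_comm h t u).map C.ρ

theorem Xe_comm {r r' : ℕ} (h : (r', r) ∈ [(7, 10), (7, 11), (8, 6), (8, 10), (8, 11), (9, 6), (9, 10),
      (9, 11), (6, 11), (10, 11), (6, 8), (6, 9), (10, 7), (11, 7), (10, 8), (11, 8), (10, 9), (11, 9),
      (11, 6), (11, 10)]) (u : F) (s : F) : Commute (C.X r' u) (C.e r s) :=
  C.e_comm_op (fun t => C.X_comm h t u) s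

theorem ee_comm {r r' : ℕ} (h : (r', r) ∈ [(7, 10), (7, 11), (8, 6), (8, 10), (8, 11), (9, 6), (9, 10),
      (9, 11), (6, 11), (10, 11), (6, 8), (6, 9), (10, 7), (11, 7), (10, 8), (11, 8), (10, 9), (11, 9),
      (11, 6), (11, 10)]) (u s : F) : Commute (C.e r' u) (C.e r s) :=
  (C.e_comm_op (A := C.e r s) (fun t => (C.Xe_comm h t s).symm) u).symm

theorem eigen_e {r : ℕ} {P : End ℂ V} {a : F} (h : C.e r a * P = P) (t : F) :
    C.X r t * P = C.ψ (a * t) • P := eigen_of_pe_mul (C.par r) h t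

theorem e_of_eigen [DecidableEq F] {r : ℕ} {P : End ℂ V} {a : F} (h : ∀ t, C.X r t * P = C.ψ (a * t) • P)
    (s : F) : C.e r s * P = if s = a then P else 0 := pe_mul_of_eigen C.hψ h s

theorem e_of_fixed {r : ℕ} {P : End ℂ V} (h : ∀ t, C.X r t * P = P) : C.e r 0 * P = P := by
  classical
  rw [C.e_of_eigen (a := 0) (fun t => by rw [h, zero_mul, AddChar.map_zero_eq_one, one_smul]), if_pos rfl]

theorem fixed_e {r : ℕ} {P : End ℂ V} (h : C.e r 0 * P = P) (t : F) : C.X r t * P = P := by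
  rw [C.eigen_e h, zero_mul, AddChar.map_zero_eq_one, one_smul]

/-! ### Conjugation -/

theorem cj_mul (g : ↥(chevG2.group F)) (A B : End ℂ V) : C.cj g (A * B) = C.cj g A * C.cj g B := by
  simp only [cj, mul_assoc]
  rw [← mul_assoc (C.ρ g⁻¹) (C.ρ g), rho_inv, one_mul]

theorem cj_eq_self {g : ↥(chevG2.group F)} {A : End ℂ V} (h : Commute (C.ρ g) A) : C.cj g A = A := by
  rw [cj, h.eq, mul_assoc, rho_inv', mul_one]

theorem comm_of_cj {g : ↥(chevG2.group F)} {A : End ℂ V} (h : C.cj g A = A) : Commute (C.ρ g) A := by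
  show C.ρ g * A = A * C.ρ g
  conv_rhs => rw [← h, cj, mul_assoc, rho_inv, mul_one]

theorem cj_cj (g h : ↥(chevG2.group F)) (A : End ℂ V) : C.cj g (C.cj h A) = C.cj (g * h) A := by
  simp only [cj, _root_.mul_inv_rev, map_mul, mul_assoc]

theorem cj_one (A : End ℂ V) : C.cj 1 A = A := by simp [cj]

theorem cj_inv_cj (g : ↥(chevG2.group F)) (A : End ℂ V) : C.cj g⁻¹ (C.cj g A) = A := by
  rw [cj_cj, inv_mul_cancel, cj_one]

theorem cj_idem {g : ↥(chevG2.group F)} {A : End ℂ V} (h : IsIdempotentElem A) :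
    IsIdempotentElem (C.cj g A) := by
  rw [IsIdempotentElem, ← cj_mul, h.eq]

theorem dm_cj {g : ↥(chevG2.group F)} {A : End ℂ V} (h : IsIdempotentElem A) : dm (C.cj g A) = dm A :=
  dm_conj _ _ h (C.rho_inv g)

theorem cj_absorb {g : ↥(chevG2.group F)} {A B : End ℂ V} (h : A * B = B) :
    C.cj g A * C.cj g B = C.cj g B := by rw [← cj_mul, h]

theorem cj_e_of_map {g : ↥(chevG2.group F)} {r r' : ℕ} {c : F} (hc : c ≠ 0)
    (h : ∀ t, g * x r t * g⁻¹ = x r' (c * t)) (s : F) : C.cj g (C.e r s) = C.e r' (s / c) := by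
  have := pe_conj (ψ := C.ψ) (X := C.X r) (X' := C.X r') (g := C.ρ g) (g' := C.ρ g⁻¹) (P := 1) hc (δ := 0)
    (fun t => by
      rw [zero_mul, AddChar.map_zero_eq_one, one_smul, X, X, ← map_mul, ← map_mul, h, mul_one]) s
  simpa [cj, e, mul_one] using this

/-- The shift of a projection by a conjugation. -/
theorem cj_e_mul {g : ↥(chevG2.group F)} {r r' : ℕ} {c δ : F} (hc : c ≠ 0) {P : End ℂ V}
    (y : F → ↥(chevG2.group F)) (h : ∀ t, g * x r t * g⁻¹ = x r' (c * t) * y t)
    (hy : ∀ t, C.ρ (y t) * P = C.ψ (δ * t) • P) (s : F) :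
    C.cj g (C.e r s) * P = C.e r' ((s - δ) / c) * P :=
  pe_conj hc (fun t => by
    rw [X, X, ← map_mul, ← map_mul, h, map_mul, mul_assoc, hy, mul_smul_comm]) s

theorem cj_e_one {g : ↥(chevG2.group F)} {r : ℕ} {P : End ℂ V} {δ : F}
    (y : F → ↥(chevG2.group F)) (h : ∀ t, g * x r t * g⁻¹ = x r t * y t)
    (hy : ∀ t, C.ρ (y t) * P = C.ψ (δ * t) • P) (s : F) :
    C.cj g (C.e r s) * P = C.e r (s - δ) * P := by
  rw [C.cj_e_mul one_ne_zero y (fun t => by rw [one_mul]; exact h t) hy, div_one]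

theorem cj_tau (a b : Fˣ) {r : ℕ} (hr : r < 12) (s : F) :
    C.cj (tau a b) (C.e r s) = C.e r (s / ((a ^ co7 r * b ^ co6 r : Fˣ) : F)) :=
  C.cj_e_of_map (Units.ne_zero _) (tau_conj a b hr) s

/-- Splitting along the characters of a root subgroup. -/
theorem split {r : ℕ} {P : End ℂ V} (hP : IsIdempotentElem P) (hc : ∀ t, Commute P (C.X r t)) :
    dm P = ∑ s, dm (C.e r s * P) := by
  rw [dm_split C.hψ (C.par r) hP hc]
  exact Finset.sum_congr rfl fun s _ => by rw [← e, (C.e_comm_op hc s).eq]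

theorem e_mul_idem {r : ℕ} {P : End ℂ V} (hP : IsIdempotentElem P) (hc : ∀ t, Commute P (C.X r t))
    (s : F) : IsIdempotentElem (C.e r s * P) :=
  (C.e_idem r s).mul_of_commute (C.e_comm_op hc s).symm hP

/-! ### Idempotents with one-dimensional image -/

/-- An operator commuting with an idempotent of rank one acts on it as a scalar. -/
theorem scalar_of_rank_one {P A : End ℂ V} (hP : IsIdempotentElem P) (h1 : dm P = 1) (hA : Commute A P) :
    ∃ c : ℂ, A * P = c • P := by
  obtain ⟨v, hv⟩ := finrank_eq_one_iff'.1 h1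
  obtain ⟨hv0, hspan⟩ := hv
  obtain ⟨c, hc⟩ := hspan ⟨P (A v.1), LinearMap.mem_range_self _ _⟩
  refine ⟨c, LinearMap.ext fun w => ?_⟩
  obtain ⟨d, hd⟩ := hspan ⟨P w, LinearMap.mem_range_self _ _⟩
  have hd' : d • v.1 = P w := congrArg Subtype.val hd
  have hc' : c • v.1 = P (A v.1) := congrArg Subtype.val hc
  have hPv : P v.1 = v.1 := by
    obtain ⟨u, hu⟩ := v.2
    rw [← hu, ← Module.End.mul_apply, hP.eq]
  have hAv : A v.1 = c • v.1 := by
    rw [hc']
    calc A v.1 = A (P v.1) := by rw [hPv]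
      _ = P (A v.1) := LinearMap.congr_fun hA.eq v.1
  rw [Module.End.mul_apply, LinearMap.smul_apply, ← hd', map_smul, hAv, smul_comm]

/-- A root subgroup commuting with an idempotent of rank one acts on it by one character. -/
theorem exists_eigen {r : ℕ} {P : End ℂ V} (hP : IsIdempotentElem P) (h1 : dm P = 1)
    (hc : ∀ t, Commute P (C.X r t)) : ∃ a, C.e r a * P = P := by
  have hs := C.split hP hc
  obtain ⟨a, ha⟩ : ∃ a, C.e r a * P ≠ 0 := by
    by_contra hall
    push Not at hall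
    simp only [hall, dm_zero, Finset.sum_const_zero] at hs
    omega
  refine ⟨a, ?_⟩
  obtain ⟨c, hcP⟩ := scalar_of_rank_one hP h1 (C.e_comm_op hc a).symm
  have h2 : (c * c) • P = c • P := by
    rw [mul_smul, ← hcP, ← mul_smul_comm, ← hcP, ← mul_assoc, (C.e_idem r a).eq]
  have hP0 : P ≠ 0 := fun h => by rw [h, dm_zero] at h1; omega
  have hc0 : c ≠ 0 := fun h => ha (by rw [hcP, h, zero_smul])
  have hc1 : c = 1 := by
    have := smul_left_injective ℂ hP0 h2
    exact mul_left_cancel₀ hc0 (by rw [this, mul_one])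
  rw [hcP, hc1, one_smul]

/-- Invariance under a non-trivial scaling kills the character. -/
theorem eigen_trivial {r : ℕ} {P : End ℂ V} (hP : IsIdempotentElem P) (h1 : dm P = 1)
    (hc : ∀ t, Commute P (C.X r t)) {g : ↥(chevG2.group F)} (hg : Commute (C.ρ g) P) {k : F}
    (hk : k ≠ 0) (hk1 : k ≠ 1) (h : ∀ t, g * x r t * g⁻¹ = x r (k * t)) : C.e r 0 * P = P := by
  obtain ⟨a, ha⟩ := C.exists_eigen hP h1 hc
  have h2 : C.e r (a / k) * P = P := by
    rw [← C.cj_e_of_map hk h a]
    conv_lhs => rw [← C.cj_eq_self hg]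
    rw [C.cj_absorb ha, C.cj_eq_self hg]
  by_cases h0 : a = 0
  · rwa [h0] at ha
  · exfalso
    have hne : a / k ≠ a := fun h' => hk1 (by field_simp at h'; exact h'.symm)
    have : P = 0 := by
      rw [← h2, ← ha, ← mul_assoc, C.e_orth r hne, zero_mul]
    rw [this, dm_zero] at h1
    omega

/-! ### No fixed vector -/

/-- No non-zero idempotent is fixed by the four simple root subgroups. -/
theorem no_fixed {P : End ℂ V} (h : ∀ r ∈ [7, 4, 6, 5], ∀ t, C.X r t * P = P) : P = 0 := by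
  by_contra hP
  let K : Subgroup ↥(chevG2.group F) :=
    { carrier := {g | C.ρ g * P = P}
      one_mem' := by simp
      mul_mem' := fun {a b} ha hb => by
        show C.ρ (a * b) * P = P
        rw [map_mul, mul_assoc, hb, ha]
      inv_mem' := fun {a} ha => by
        show C.ρ a⁻¹ * P = P
        conv_lhs => rw [← ha]
        rw [← mul_assoc, C.rho_inv, one_mul] }
  have hK := gen_simple K h
  have hfix : ∀ g, C.ρ g * P = P := fun g => (hK ▸ Subgroup.mem_top g : g ∈ K)
  obtain ⟨v, hv⟩ : ∃ v, P v ≠ 0 := by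
    by_contra hall
    push Not at hall
    exact hP (LinearMap.ext hall)
  have hfv : ∀ g, C.ρ g (P v) = P v := fun g => LinearMap.congr_fun (hfix g) v
  let S : Subrepresentation C.ρ :=
    { toSubmodule := Submodule.span ℂ {P v}
      apply_mem_toSubmodule := fun g w hw => by
        obtain ⟨c, rfl⟩ := Submodule.mem_span_singleton.1 hw
        rw [map_smul, hfv]
        exact Submodule.smul_mem _ _ (Submodule.mem_span_singleton_self _) }
  have := C.irr
  rcases IsSimpleOrder.eq_bot_or_eq_top S with h' | h'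
  · exact hv (Submodule.span_singleton_eq_bot.1 (congrArg Subrepresentation.toSubmodule h'))
  · have h2 : Submodule.span ℂ {P v} = ⊤ := congrArg Subrepresentation.toSubmodule h'
    have h3 := finrank_span_singleton (K := ℂ) hv
    rw [h2, finrank_top] at h3
    have := C.two_le
    omega

/-- The kernel is trivial. -/
theorem faithful {g : ↥(chevG2.group F)} (h : C.ρ g = 1) : g = 1 := by
  have hs := simple_group (F := F) (by have := C.four_le; omega)
  rcases hs.eq_bot_or_eq_top_of_normal (MonoidHom.ker C.ρ) (MonoidHom.normal_ker _) with h' | h'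
  · have : g ∈ MonoidHom.ker C.ρ := MonoidHom.mem_ker.2 h
    rwa [h', Subgroup.mem_bot] at this
  · exfalso
    have h1 : (1 : End ℂ V) = 0 := C.no_fixed fun r _ t => by
      rw [mul_one, X]
      exact MonoidHom.mem_ker.1 (h' ▸ Subgroup.mem_top _)
    have h2 := congrArg (dm (V := V)) h1
    rw [dm_one, dm_zero] at h2
    have := C.two_le
    omega

/-! ### Operators commuting with the long-root subgroup -/

/-- Commutes with the image of `SL₃`. -/
def HComm (Q : End ℂ V) : Prop := ∀ g ∈ (sl3 (F := F)).range, Commute Q (C.ρ g)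

theorem hcomm_one : C.HComm 1 := fun _ _ => Commute.one_left _

theorem HComm.X {C : Ctx F V} {Q : End ℂ V} (hQ : C.HComm Q) {r : ℕ} (h : r ∈ [0, 1, 5, 6, 10, 11])
    (t : F) : Commute Q (C.X r t) := hQ _ (long_mem_range h t)

theorem HComm.e {C : Ctx F V} {Q : End ℂ V} (hQ : C.HComm Q) {r : ℕ} (h : r ∈ [0, 1, 5, 6, 10, 11])
    (s : F) : Commute Q (C.e r s) := C.e_comm_op (fun t => hQ.X h t) s

theorem HComm.cj {C : Ctx F V} {Q : End ℂ V} (hQ : C.HComm Q) {g : ↥(chevG2.group F)}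
    (hg : g ∈ (sl3 (F := F)).range) : C.cj g Q = Q := C.cj_eq_self (hQ g hg).symm

theorem nw6_mem : nw 6 ∈ (sl3 (F := F)).range := by
  rw [nw, show chevG2.neg 6 = 5 from by decide +kernel]
  exact mul_mem (mul_mem (long_mem_range (by simp) _) (long_mem_range (by simp) _)) (long_mem_range (by simp) _)

/-- The fixed space of the radical `X₁₀ X₁₁`. -/
noncomputable def Cp : End ℂ V := C.e 10 0 * C.e 11 0

theorem line_idem (v w : F) : IsIdempotentElem (C.e 10 v * C.e 11 w) :=
  (C.e_idem 10 v).mul_of_commute (C.ee_comm (by simp) v w) (C.e_idem 11 w)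

theorem Q_line_idem {Q : End ℂ V} (hQ : C.HComm Q) (hi : IsIdempotentElem Q) (v w : F) :
    IsIdempotentElem (Q * (C.e 10 v * C.e 11 w)) :=
  hi.mul_of_commute ((hQ.e (by simp) v).mul_right (hQ.e (by simp) w)) (C.line_idem v w)

/-- The multiplicity of a non-trivial character of `X₁₀ X₁₁`. -/
noncomputable def nQ (Q : End ℂ V) : ℕ := dm (Q * (C.e 10 0 * C.e 11 1))

theorem line_dm {Q : End ℂ V} (hQ : C.HComm Q) (hi : IsIdempotentElem Q) (v w : F)
    (h : v ≠ 0 ∨ w ≠ 0) : dm (Q * (C.e 10 v * C.e 11 w)) = C.nQ Q := by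
  have key : ∀ v w : F, w ≠ 0 → dm (Q * (C.e 10 v * C.e 11 w)) = C.nQ Q := by
    intro v w hw
    have h1 : C.cj (x 6 (v / w)) (Q * (C.e 10 v * C.e 11 w)) = Q * (C.e 10 0 * C.e 11 w) := by
      rw [C.cj_mul, hQ.cj (long_mem_range (by simp) _), C.cj_mul,
        C.cj_eq_self (A := C.e 11 w) (C.Xe_comm (by simp) _ _)]
      congr 1
      rw [C.cj_e_one (δ := v) (fun t => x 11 (v / w * t)) (fun t => c6_10 _ _) (fun t => ?_), sub_self]
      rw [show C.ρ (x 11 (v / w * t)) = C.X 11 (v / w * t) from rfl,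
        C.eigen_e (C.e_idem 11 w).eq]
      congr 2
      field_simp
    have hu : w ≠ 0 := hw
    have h2 : C.cj (tau (Units.mk0 w hu) (Units.mk0 w hu)⁻¹) (Q * (C.e 10 0 * C.e 11 w)) =
        Q * (C.e 10 0 * C.e 11 1) := by
      rw [C.cj_mul, hQ.cj (tau_mem_range _ _), C.cj_mul, C.cj_tau _ _ (by decide), C.cj_tau _ _ (by decide),
        zero_div]
      congr 3
      simp only [co7, co6, List.getD_cons_succ, List.getD_cons_zero]
      rw [Units.val_mul]
      simp only [Units.val_zpow_eq_zpow_val, Units.val_inv_eq_inv_val, Units.val_mk0]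
      field_simp
    rw [nQ, ← h2, C.dm_cj (C.Q_line_idem hQ hi _ _), ← h1, C.dm_cj (C.Q_line_idem hQ hi _ _)]
  by_cases hw : w = 0
  · subst hw
    have hv : v ≠ 0 := by simpa using h
    obtain ⟨e1, he1, h10⟩ := n6_conj (F := F) 10 11 (by simp)
    obtain ⟨e2, he2, h11⟩ := n6_conj (F := F) 11 10 (by simp)
    have ne1 : e1 ≠ 0 := by rcases he1 with rfl | rfl <;> simp
    have ne2 : e2 ≠ 0 := by rcases he2 with rfl | rfl <;> simp
    have : C.cj (nw 6) (Q * (C.e 10 v * C.e 11 0)) = Q * (C.e 10 0 * C.e 11 (v / e1)) := by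
      rw [C.cj_mul, hQ.cj nw6_mem, C.cj_mul, C.cj_e_of_map ne1 h10, C.cj_e_of_map ne2 h11, zero_div,
        (C.ee_comm (by simp) _ _).eq]
    rw [← C.dm_cj (g := nw 6) (C.Q_line_idem hQ hi v 0), this, key _ _ (div_ne_zero hv ne1)]
  · exact key v w hw

theorem Cp_idem : IsIdempotentElem C.Cp := C.line_idem 0 0

theorem e11_comm10 (w : F) (t : F) : Commute (C.e 11 w) (C.X 10 t) := (C.Xe_comm (by simp) t w).symm

theorem dm_e11_split {Q : End ℂ V} (hQ : C.HComm Q) (hi : IsIdempotentElem Q) (w : F) :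
    dm (Q * C.e 11 w) = ∑ v, dm (Q * (C.e 10 v * C.e 11 w)) := by
  rw [C.split (r := 10) (hi.mul_of_commute (hQ.e (by simp) w) (C.e_idem 11 w))
    (fun t => (hQ.X (by simp) t).mul_left (C.e11_comm10 w t))]
  exact Finset.sum_congr rfl fun v _ => by rw [← mul_assoc, ← (hQ.e (by simp) v).eq, mul_assoc]

theorem dm_e11 {Q : End ℂ V} (hQ : C.HComm Q) (hi : IsIdempotentElem Q) {w : F} (hw : w ≠ 0) :
    dm (Q * C.e 11 w) = Fintype.card F * C.nQ Q := by
  rw [C.dm_e11_split hQ hi, Finset.sum_congr rfl fun v _ => C.line_dm hQ hi v w (Or.inr hw),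
    Finset.sum_const, smul_eq_mul, Finset.card_univ]

theorem dm_e11_zero {Q : End ℂ V} (hQ : C.HComm Q) (hi : IsIdempotentElem Q) :
    dm (Q * C.e 11 0) = (Fintype.card F - 1) * C.nQ Q + dm (Q * C.Cp) := by
  classical
  rw [C.dm_e11_split hQ hi, ← Finset.add_sum_erase _ _ (Finset.mem_univ (0 : F)), add_comm,
    ← show C.e 10 0 * C.e 11 0 = C.Cp from rfl,
    Finset.sum_congr rfl fun v hv => C.line_dm hQ hi v 0 (Or.inl (Finset.ne_of_mem_erase hv)),
    Finset.sum_const, smul_eq_mul, Finset.card_erase_of_mem (Finset.mem_univ _), Finset.card_univ]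

theorem dm_total {Q : End ℂ V} (hQ : C.HComm Q) (hi : IsIdempotentElem Q) :
    dm Q = (Fintype.card F ^ 2 - 1) * C.nQ Q + dm (Q * C.Cp) := by
  classical
  rw [C.split (r := 11) hi (fun t => hQ.X (by simp) t)]
  have e : ∀ w, C.e 11 w * Q = Q * C.e 11 w := fun w => (hQ.e (by simp) w).eq.symm
  simp only [e]
  rw [← Finset.add_sum_erase _ _ (Finset.mem_univ (0 : F)), C.dm_e11_zero hQ hi,
    Finset.sum_congr rfl fun w hw => C.dm_e11 hQ hi (Finset.ne_of_mem_erase hw),
    Finset.sum_const, smul_eq_mul, Finset.card_erase_of_mem (Finset.mem_univ _), Finset.card_univ]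
  obtain ⟨q, hq⟩ : ∃ q, Fintype.card F = q + 1 := ⟨Fintype.card F - 1, by have := C.four_le; omega⟩
  rw [hq, Nat.add_sub_cancel, show (q + 1) ^ 2 - 1 = q * q + 2 * q by ring_nf; omega]
  ring

theorem nQ_one_pos : 0 < C.nQ 1 := by
  by_contra h0
  have h0' : C.nQ 1 = 0 := by omega
  have hI := C.Cp_idem
  have ht := C.dm_total C.hcomm_one IsIdempotentElem.one
  rw [h0', mul_zero, zero_add, one_mul, dm_one] at ht
  have hc : dm ((1 : End ℂ V) - C.Cp) = 0 := by
    have h2 := dm_sum (V := V) (Finset.univ : Finset Bool) (P := 1) (Q := fun b => cond b C.Cp (1 - C.Cp))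
      IsIdempotentElem.one (fun b _ => by cases b <;> simp [hI, hI.one_sub]) (by simp)
    rw [Fintype.sum_bool, dm_one] at h2
    simp only [cond_true, cond_false] at h2
    omega
  have hCp : C.Cp = 1 := (sub_eq_zero.1 (eq_zero_of_dm hc)).symm
  have hfix : C.ρ (x 11 1) = 1 := by
    have h1 : C.e 11 0 * C.Cp = C.Cp := by
      rw [Cp, (C.ee_comm (r := 11) (r' := 10) (by simp) 0 0).eq, ← mul_assoc, (C.e_idem 11 0).eq]
    have := C.fixed_e h1 1
    rwa [hCp, mul_one] at this
  have h1 := C.faithful hfix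
  have h2 := (goodG2.x_eq_one_iff (F := F) (r := 11) (by decide) 1).1
    (congrArg (fun z : ↥(chevG2.group F) => ((z : GL chevG2.Idx F) : Matrix chevG2.Idx chevG2.Idx F)) h1)
  exact one_ne_zero h2

end Ctx

end CfsgLib.Chev.G2Min
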