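import Mathlib
import Cfsg.Agent.Lib.Chev.G2Min.Base

/-!
The bound `q³ - 1` in characteristic different from three, and the structure at the bound.
-/

set_option autoImplicit false
set_option linter.unusedSectionVars false
set_option maxRecDepth 100000

namespace CfsgLib.Chev.G2Min

open Cfsg.Lie Module

variable {F : Type*} [Field F] [Fintype F] {V : Type*} [AddCommGroup V] [Module ℂ V]
  [FiniteDimensional ℂ V]

theorem exists_unit_gen (h5 : 5 ≤ Fintype.card F) : ∃ u : Fˣ, u ^ 2 ≠ 1 ∧ u ^ 3 ≠ 1 ∧ u ≠ 1 := by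
  classical
  obtain ⟨u, hu⟩ := IsCyclic.exists_generator (α := Fˣ)
  have ho := orderOf_eq_card_of_forall_mem_zpowers hu
  rw [Nat.card_units, Nat.card_eq_fintype_card] at ho
  refine ⟨u, fun h => ?_, fun h => ?_, fun h => ?_⟩
  · have := Nat.le_of_dvd (by norm_num) (orderOf_dvd_of_pow_eq_one h); omega
  · have := Nat.le_of_dvd (by norm_num) (orderOf_dvd_of_pow_eq_one h); omega
  · rw [h, orderOf_one] at ho; omega

namespace Ctx

variable (C : Ctx F V)

theorem B_idem (v : F) : IsIdempotentElem (C.e 10 v * C.e 11 0) := C.line_idem v 0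

theorem B_X9 (v w t : F) : Commute (C.e 10 v * C.e 11 w) (C.X 9 t) :=
  ((C.Xe_comm (by simp) t v).mul_right (C.Xe_comm (by simp) t w)).symm

/-- On a character non-trivial on `X₁₁`, the characters of `X₉` are permuted transitively. -/
theorem q_dvd_nQ (h3 : (3 : F) ≠ 0) : Fintype.card F ∣ C.nQ 1 := by
  set B := C.e 10 (0 : F) * C.e 11 1 with hB
  have hBi : IsIdempotentElem B := C.line_idem 0 1
  have hn : C.nQ 1 = dm B := by rw [nQ, one_mul]
  refine ⟨dm (C.e 9 0 * B), ?_⟩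
  rw [hn, C.split (r := 9) hBi (C.B_X9 0 1)]
  have : ∀ a, dm (C.e 9 a * B) = dm (C.e 9 0 * B) := by
    intro a
    have hcB : C.cj (x 8 (a / 3)) B = B :=
      C.cj_eq_self ((C.Xe_comm (by simp) _ _).mul_right (C.Xe_comm (by simp) _ _))
    have h1 : C.cj (x 8 (a / 3)) (C.e 9 a * B) = C.e 9 0 * B := by
      rw [C.cj_mul, hcB,
        C.cj_e_one (δ := a) (fun t => x 11 (3 * (a / 3) * t)) (fun t => c8_9 _ _) (fun t => ?_), sub_self]
      have e2 : C.X 11 (a * t) * B = C.ψ (a * t) • B := by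
        rw [C.eigen_e (a := 1) (P := B) (by
          rw [hB, (C.ee_comm (r := 11) (r' := 10) (by simp) _ _).eq, ← mul_assoc, (C.e_idem 11 1).eq]), one_mul]
      rw [show 3 * (a / 3) * t = a * t by field_simp]
      exact e2
    rw [← h1, C.dm_cj (C.e_mul_idem hBi (C.B_X9 0 1) a)]
  rw [Finset.sum_congr rfl fun a _ => this a, Finset.sum_const, smul_eq_mul, Finset.card_univ]

/-! ### The rank one projections -/

/-- `B v`: the character `(v, 0)` of `X₁₀ X₁₁`. -/
noncomputable def B (v : F) : End ℂ V := C.e 10 v * C.e 11 0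

theorem e11_B (v : F) : C.e 11 0 * C.B v = C.B v := by
  rw [B, (C.ee_comm (r := 11) (r' := 10) (by simp) v 0).eq, ← mul_assoc, (C.e_idem 11 0).eq]

theorem X11_B (v t : F) : C.X 11 t * C.B v = C.B v := C.fixed_e (C.e11_B v) t

theorem e10_B (v : F) : C.e 10 v * C.B v = C.B v := by rw [B, ← mul_assoc, (C.e_idem 10 v).eq]

theorem cj_x7_B (u v : F) : C.cj (x 7 u) (C.B v) = C.B v :=
  C.cj_eq_self ((C.Xe_comm (by simp) _ _).mul_right (C.Xe_comm (by simp) _ _))

/-- The projection of rank one. -/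
noncomputable def P1 (v : F) : End ℂ V := C.e 9 0 * C.B v

theorem P1_idem (v : F) : IsIdempotentElem (C.P1 v) := C.e_mul_idem (C.B_idem v) (C.B_X9 v 0) 0

theorem cj_x7_e9B (u v s : F) : C.cj (x 7 u) (C.e 9 s * C.B v) = C.e 9 (s - 3 * u * v) * C.B v := by
  rw [C.cj_mul, C.cj_x7_B,
    C.cj_e_one (δ := 3 * u * v) (fun t => x 10 (3 * u * t)) (fun t => c7_9 _ _) (fun t => ?_)]
  show C.X 10 _ * _ = _
  rw [C.eigen_e (C.e10_B v)]
  congr 2
  ring

variable (h3 : (3 : F) ≠ 0) (hn : C.nQ 1 = Fintype.card F) (h5 : 5 ≤ Fintype.card F)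
include h3 hn

theorem dm_B {v : F} (hv : v ≠ 0) : dm (C.B v) = Fintype.card F := by
  have h := C.line_dm C.hcomm_one IsIdempotentElem.one v 0 (Or.inl hv)
  rw [one_mul, hn] at h
  exact h

theorem dm_e9B {v : F} (hv : v ≠ 0) (s : F) : dm (C.e 9 s * C.B v) = 1 := by
  have h := C.dm_B h3 hn hv
  rw [B, C.split (r := 9) (C.B_idem v) (C.B_X9 v 0), ← B] at h
  have : ∀ a, dm (C.e 9 a * C.B v) = dm (C.e 9 s * C.B v) := by
    intro a
    have h1 := C.dm_cj (g := x 7 ((a - s) / (3 * v))) (C.e_mul_idem (C.B_idem v) (C.B_X9 v 0) a)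
    rw [show C.e 10 v * C.e 11 0 = C.B v from rfl, C.cj_x7_e9B,
      show a - 3 * ((a - s) / (3 * v)) * v = s by field_simp; ring] at h1
    exact h1.symm
  rw [Finset.sum_congr rfl fun a _ => this a, Finset.sum_const, smul_eq_mul, Finset.card_univ] at h
  exact (mul_eq_left₀ Fintype.card_ne_zero).1 h

include h5

theorem P1_fixed {v : F} (hv : v ≠ 0) : C.e 8 0 * C.P1 v = C.P1 v ∧ C.e 6 0 * C.P1 v = C.P1 v := by
  obtain ⟨u, hu2, hu3, -⟩ := exists_unit_gen h5
  have hd := C.dm_e9B h3 hn hv 0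
  have hI := C.P1_idem v
  have hcB : ∀ {r : ℕ}, r ∈ [6, 8] → ∀ t, Commute (C.X r t) (C.B v) := by
    intro r hr t
    simp only [List.mem_cons, List.not_mem_nil, or_false] at hr
    rcases hr with rfl | rfl
    · refine C.comm_of_cj ?_
      rw [B, C.cj_mul, C.cj_eq_self (A := C.e 11 0) (C.Xe_comm (by simp) t 0),
        C.cj_e_one (δ := 0) (fun s => x 11 (t * s)) (fun s => c6_10 _ _) (fun s => ?_), sub_zero]
      show C.X 11 _ * _ = _
      rw [C.fixed_e (C.e_idem 11 0).eq, zero_mul, AddChar.map_zero_eq_one, one_smul]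
    · exact (C.Xe_comm (by simp) t v).mul_right (C.Xe_comm (by simp) t 0)
  have hc8 : ∀ t, Commute (C.P1 v) (C.X 8 t) := fun t => by
    refine (C.comm_of_cj (g := x 8 t) ?_).symm
    rw [P1, C.cj_mul, C.cj_eq_self (g := x 8 t) (hcB (by simp) t),
      C.cj_e_one (δ := 0) (fun s => x 11 (3 * t * s)) (fun s => c8_9 _ _) (fun s => ?_), sub_zero]
    show C.X 11 _ * _ = _
    rw [C.X11_B, zero_mul, AddChar.map_zero_eq_one, one_smul]
  have hc6 : ∀ t, Commute (C.P1 v) (C.X 6 t) := fun t =>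
    ((C.Xe_comm (by simp) t 0).mul_right (hcB (by simp) t)).symm
  have hg : Commute (C.ρ (tau u (u ^ 3)⁻¹)) (C.P1 v) := by
    refine C.comm_of_cj ?_
    rw [P1, B, C.cj_mul, C.cj_mul, C.cj_tau _ _ (by decide), C.cj_tau _ _ (by decide),
      C.cj_tau _ _ (by decide), zero_div, zero_div]
    simp [co7, co6]

  refine ⟨?_, ?_⟩
  · refine C.eigen_trivial hI hd hc8 hg
      (k := ((u ^ co7 8 * (u ^ 3)⁻¹ ^ co6 8 : Fˣ) : F)) (Units.ne_zero _) ?_ (tau_conj _ _ (by decide))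
    rw [Ne, Units.val_eq_one]
    simp only [co7, co6, List.getD_cons_succ, List.getD_cons_zero, zpow_one]
    rw [mul_inv_eq_one]
    intro h
    rw [pow_succ' u 2] at h
    exact hu2 (mul_left_cancel (h.symm.trans (mul_one u).symm))
  · refine C.eigen_trivial hI hd hc6 hg
      (k := ((u ^ co7 6 * (u ^ 3)⁻¹ ^ co6 6 : Fˣ) : F)) (Units.ne_zero _) ?_ (tau_conj _ _ (by decide))
    rw [Ne, Units.val_eq_one]
    simp only [co7, co6, List.getD_cons_succ, List.getD_cons_zero, zpow_one, zpow_zero, one_mul, inv_eq_one]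
    exact hu3

theorem Cp_X6 (t : F) : Commute C.Cp (C.X 6 t) := by
  refine (C.comm_of_cj (g := x 6 t) ?_).symm
  rw [Cp, C.cj_mul, C.cj_eq_self (A := C.e 11 0) (C.Xe_comm (by simp) t 0),
    C.cj_e_one (δ := 0) (fun s => x 11 (t * s)) (fun s => c6_10 _ _) (fun s => ?_), sub_zero]
  show C.X 11 _ * _ = _
  rw [C.fixed_e (C.e_idem 11 0).eq, zero_mul, AddChar.map_zero_eq_one, one_smul]

theorem C6_pos {a : F} (ha : a ≠ 0) : 1 ≤ dm (C.e 6 a * C.Cp) := by
  obtain ⟨e10, he10, h10⟩ := n7_conj (F := F) 10 6 (by simp)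
  obtain ⟨e6, he6, h6⟩ := n7_conj (F := F) 6 10 (by simp)
  obtain ⟨e11, he11, h11⟩ := n7_conj (F := F) 11 11 (by simp)
  have n10 : e10 ≠ 0 := by rcases he10 with rfl | rfl <;> simp
  have n6 : e6 ≠ 0 := by rcases he6 with rfl | rfl <;> simp
  have n11 : e11 ≠ 0 := by rcases he11 with rfl | rfl <;> simp
  have hv : e10 * a ≠ 0 := mul_ne_zero n10 ha
  set Q := C.cj (nw 7) (C.P1 (e10 * a)) with hQ
  have k1 : C.e 10 0 * Q = Q := by
    rw [hQ]
    conv_lhs => rw [← zero_div e6, ← C.cj_e_of_map n6 h6]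
    exact C.cj_absorb (C.P1_fixed h3 hn h5 hv).2
  have k2 : C.e 11 0 * Q = Q := by
    rw [hQ]
    conv_lhs => rw [← zero_div e11, ← C.cj_e_of_map n11 h11]
    exact C.cj_absorb (by
      rw [P1, ← mul_assoc, (C.ee_comm (r := 9) (r' := 11) (by simp) 0 0).eq, mul_assoc, C.e11_B])
  have k3 : C.e 6 a * Q = Q := by
    rw [hQ]
    conv_lhs => rw [show a = e10 * a / e10 from (mul_div_cancel_left₀ a n10).symm, ← C.cj_e_of_map n10 h10,
      show e10 * a / e10 = a from mul_div_cancel_left₀ a n10]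
    exact C.cj_absorb (by
      rw [P1, ← mul_assoc, (C.ee_comm (r := 9) (r' := 10) (by simp) _ 0).eq, mul_assoc, C.e10_B])
  have h : C.e 6 a * C.Cp * Q = Q := by rw [Cp, mul_assoc, mul_assoc, k2, k1, k3]
  have := dm_le_of_mul h
  rw [hQ, C.dm_cj (C.P1_idem _), show C.P1 (e10 * a) = C.e 9 0 * C.B (e10 * a) from rfl,
    C.dm_e9B h3 hn hv] at this
  exact this

theorem dm_Cp_eq : dm C.Cp = ∑ a, dm (C.e 6 a * C.Cp) :=
  C.split C.Cp_idem (C.Cp_X6 h3 hn h5)

theorem Cp_ge : Fintype.card F - 1 + dm (C.e 6 0 * C.Cp) ≤ dm C.Cp := by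
  classical
  rw [C.dm_Cp_eq h3 hn h5, ← Finset.add_sum_erase _ _ (Finset.mem_univ (0 : F)), add_comm]
  have := Finset.card_nsmul_le_sum (Finset.univ.erase (0 : F)) (fun a => dm (C.e 6 a * C.Cp)) 1
    fun a ha => C.C6_pos h3 hn h5 (Finset.ne_of_mem_erase ha)
  rw [smul_eq_mul, mul_one, Finset.card_erase_of_mem (Finset.mem_univ _), Finset.card_univ] at this
  omega

omit h3 hn h5 in
theorem dm_le_k {Q : End ℂ V} : dm Q ≤ finrank ℂ V := Submodule.finrank_le _

omit hn in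
theorem lower_bound : Fintype.card F ^ 3 - 1 ≤ finrank ℂ V ∧
    (finrank ℂ V ≤ Fintype.card F ^ 3 → C.nQ 1 = Fintype.card F) := by
  obtain ⟨m, hm⟩ := C.q_dvd_nQ h3
  have ht := C.dm_total C.hcomm_one IsIdempotentElem.one
  rw [dm_one, one_mul] at ht
  have hpos := C.nQ_one_pos
  obtain ⟨q, hq⟩ : ∃ q, q = Fintype.card F := ⟨_, rfl⟩
  rw [← hq] at hm ht h5 ⊢
  have hq2 : q ^ 2 - 1 + 1 = q ^ 2 := Nat.succ_pred_eq_of_pos (pow_pos (by omega) 2)
  rcases Nat.lt_or_ge m 2 with h | h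
  · have h1 : m = 1 := by
      rcases m with _ | m
      · simp [hm] at hpos
      · omega
    subst h1
    rw [mul_one] at hm
    refine ⟨?_, fun _ => hm⟩
    have := C.Cp_ge h3 (hm.trans hq) (hq ▸ h5)
    rw [← hq] at this
    rw [hm] at ht
    have : (q ^ 2 - 1) * q + (q - 1) ≤ finrank ℂ V := by omega
    have e : q ^ 3 = (q ^ 2 - 1) * q + q := by
      conv_lhs => rw [pow_succ, ← hq2]
      ring
    omega
  · have h1 : (q ^ 2 - 1) * (q * 2) ≤ finrank ℂ V := by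
      have : (q ^ 2 - 1) * (q * 2) ≤ (q ^ 2 - 1) * (q * m) := by gcongr
      rw [hm] at ht
      omega
    have e : q ^ 3 < (q ^ 2 - 1) * (q * 2) := by
      obtain ⟨r, rfl⟩ : ∃ r, q = r + 2 := ⟨q - 2, by omega⟩
      rw [show (r + 2) ^ 2 - 1 = r ^ 2 + 4 * r + 3 by ring_nf; omega]
      nlinarith
    exact ⟨by omega, fun h' => by omega⟩

end Ctx

end CfsgLib.Chev.G2Min
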