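import Mathlib
import Cfsg.Agent.Lib.Chev.G2Min.Generic

/-!
`q ≡ 1 (mod 3)`: the eigenspaces of the centre of `SL₃` and the first exclusion.
-/

set_option autoImplicit false
set_option linter.unusedSectionVars false
set_option maxRecDepth 100000

namespace CfsgLib.Chev.G2Min

open Cfsg.Lie Module

variable {F : Type*} [Field F] [Fintype F] {V : Type*} [AddCommGroup V] [Module ℂ V]
  [FiniteDimensional ℂ V]

theorem range_induction {P : ↥(chevG2.group F) → Prop}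
    (h : ∀ {i j : Fin 3} (hij : i ≠ j) (t : F), P (sl3 (Matrix.SpecialLinearGroup.transvection hij t)))
    (h1 : P 1) (hm : ∀ a b, P a → P b → P (a * b)) (hi : ∀ a, P a → P a⁻¹)
    {g : ↥(chevG2.group F)} (hg : g ∈ (sl3 (F := F)).range) : P g := by
  let K : Subgroup ↥(chevG2.group F) :=
    { carrier := {x | P x}, one_mem' := h1, mul_mem' := fun ha hb => hm _ _ ha hb, inv_mem' := fun ha => hi _ ha }
  obtain ⟨A, rfl⟩ := hg
  have := CfsgLib.Classical.sl_transvection_induction (K.comap (sl3 (F := F))) fun i j hij c => h hij c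
  exact (this ▸ Subgroup.mem_top A : A ∈ K.comap sl3)

theorem rOf_long {i j : Fin 3} (h : i ≠ j) : KnownB.G2SL3.rOf i j ∈ [0, 1, 5, 6, 10, 11] := by
  revert h; fin_cases i <;> fin_cases j <;> simp [KnownB.G2SL3.rOf]

/-- The central element of `SL₃` for a cube root of unity. -/
noncomputable def zc (w : Fˣ) : ↥(chevG2.group F) := tau w 1

theorem zc_comm {w : Fˣ} (hw : w ^ 3 = 1) {g : ↥(chevG2.group F)} (hg : g ∈ (sl3 (F := F)).range) :
    Commute (zc w) g := by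
  refine range_induction (P := fun g => Commute (zc w) g) (fun {i j} hij t => ?_) (Commute.one_right _)
    (fun a b ha hb => ha.mul_right hb) (fun a ha => ha.inv_right) hg
  have hl := rOf_long hij
  rw [sl3_tv, Commute, SemiconjBy, ← mul_inv_eq_iff_eq_mul]
  generalize KnownB.G2SL3.rOf i j = r at hl ⊢
  have h12 : r < 12 := by simp at hl; omega
  rw [zc, tau_conj _ _ h12]
  congr 1
  have : w ^ co7 r * (1 : Fˣ) ^ co6 r = 1 := by
    rw [one_zpow, mul_one]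
    simp at hl
    have hn : (w : Fˣ) ^ (-3 : ℤ) = 1 := by rw [zpow_neg, show ((3:ℤ)) = ((3:ℕ):ℤ) from rfl, zpow_natCast, hw, inv_one]
    rcases hl with rfl | rfl | rfl | rfl | rfl | rfl <;> simp [co7, hn, show (w : Fˣ) ^ (3 : ℤ) = 1 from by
      rw [show ((3:ℤ)) = ((3:ℕ):ℤ) from rfl, zpow_natCast, hw]]
  rw [this, Units.val_one, one_mul]

theorem tau_one : tau (1 : Fˣ) 1 = (1 : ↥(chevG2.group F)) := Subtype.ext (by simp [tau])

theorem tau_mul (a b c d : Fˣ) : tau a b * tau c d = tau (a * c) (b * d) := by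
  refine Subtype.ext ?_
  show goodG2.hG 6 (a * b) * goodG2.hG 10 (a * a * b) * (goodG2.hG 6 (c * d) * goodG2.hG 10 (c * c * d)) =
    goodG2.hG 6 (a * c * (b * d)) * goodG2.hG 10 (a * c * (a * c) * (b * d))
  rw [show a * c * (b * d) = a * b * (c * d) by ac_rfl,
    show a * c * (a * c) * (b * d) = a * a * b * (c * c * d) by ac_rfl,
    MonoidHom.map_mul (goodG2.hG 6) (a * b) (c * d),
    MonoidHom.map_mul (goodG2.hG 10) (a * a * b) (c * c * d)]
  have hcm : goodG2.hG 10 (a * a * b) * goodG2.hG 6 (c * d) = goodG2.hG 6 (c * d) * goodG2.hG 10 (a * a * b) :=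
    goodG2.diagonal_comm (goodG2.hG_mem (by decide) _) (goodG2.hG_mem (by decide) _)
  calc _ = goodG2.hG 6 (a * b) * (goodG2.hG 10 (a * a * b) * goodG2.hG 6 (c * d)) * goodG2.hG 10 (c * c * d) := by
        simp only [mul_assoc]
    _ = _ := by rw [hcm]; simp only [mul_assoc]

namespace Ctx

variable (C : Ctx F V)

theorem hcomm_zc {w : Fˣ} (hw : w ^ 3 = 1) : C.HComm (C.ρ (zc w)) := fun _ hg => (zc_comm hw hg).map C.ρ

theorem zc_cube {w : Fˣ} (hw : w ^ 3 = 1) : C.ρ (zc w) * C.ρ (zc w) * C.ρ (zc w) = 1 := by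
  rw [← map_mul, ← map_mul, zc, tau_mul, tau_mul, one_mul, one_mul,
    show w * w * w = 1 by rw [← hw]; simp [pow_succ], tau_one, map_one]

/-- The projection on an eigenvalue of the central element. -/
noncomputable def Pi (w : Fˣ) (μ : ℂ) : End ℂ V :=
  (3 : ℂ)⁻¹ • ((1 : End ℂ V) + μ⁻¹ • C.ρ (zc w) + (μ⁻¹ * μ⁻¹) • (C.ρ (zc w) * C.ρ (zc w)))

theorem Pi_idem {w : Fˣ} (hw : w ^ 3 = 1) {μ : ℂ} (hμ : μ ^ 3 = 1) : IsIdempotentElem (C.Pi w μ) := by
  have h3 := C.zc_cube hw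
  set Z := C.ρ (zc w)
  set r := μ⁻¹
  have hr : r * r * r = 1 := by
    rw [← mul_inv, ← mul_inv, show μ * μ * μ = μ ^ 3 by ring, hμ, inv_one]
  set S : End ℂ V := 1 + r • Z + (r * r) • (Z * Z) with hS
  have h1 : r • Z * S = S := by
    rw [hS]
    simp only [mul_add, mul_one, smul_mul_assoc, mul_smul_comm, smul_smul]
    rw [show Z * (Z * Z) = 1 by rw [← mul_assoc, h3], show r * r * r = 1 from hr,
      one_smul]
    abel
  have hSS : S * S = (3 : ℂ) • S := by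
    conv_lhs => arg 1; rw [hS]
    have h2 : (r * r) • (Z * Z) * S = S := by
      rw [show (r * r) • (Z * Z) = r • Z * (r • Z) by simp only [smul_mul_assoc, mul_smul_comm, smul_smul],
        mul_assoc, h1, h1]
    rw [add_mul, add_mul, one_mul, h1, h2]
    module
  show (3 : ℂ)⁻¹ • S * ((3 : ℂ)⁻¹ • S) = (3 : ℂ)⁻¹ • S
  rw [smul_mul_assoc, mul_smul_comm, smul_smul, hSS, smul_smul]
  norm_num

theorem hcomm_Pi {w : Fˣ} (hw : w ^ 3 = 1) (μ : ℂ) : C.HComm (C.Pi w μ) := fun g hg => by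
  have h := C.hcomm_zc hw g hg
  exact ((((Commute.one_left _).add_left (h.smul_left _))).add_left ((h.mul_left h).smul_left _)).smul_left _

theorem Pi_mul {w : Fˣ} {μ η : ℂ} {P : End ℂ V} (h : C.ρ (zc w) * P = η • P) :
    C.Pi w μ * P = ((3 : ℂ)⁻¹ * (1 + η / μ + η / μ * (η / μ))) • P := by
  simp only [Pi, smul_mul_assoc, add_mul, one_mul, mul_assoc, h, mul_smul_comm, smul_smul, smul_add]
  simp only [← add_smul]
  congr 1
  ring

theorem B_X6 (v t : F) : Commute (C.B v) (C.X 6 t) := by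
  refine (C.comm_of_cj (g := x 6 t) ?_).symm
  rw [B, C.cj_mul, C.cj_eq_self (A := C.e 11 0) (C.Xe_comm (by simp) t 0),
    C.cj_e_one (δ := 0) (fun s => x 11 (t * s)) (fun s => c6_10 _ _) (fun s => ?_), sub_zero]
  show C.X 11 _ * _ = _
  rw [C.fixed_e (C.e_idem 11 0).eq, zero_mul, AddChar.map_zero_eq_one, one_smul]

/-- The character `b` of `X₆` inside `B v`. -/
noncomputable def Qb (v b : F) : End ℂ V := C.e 6 b * C.B v

theorem Qb_idem (v b : F) : IsIdempotentElem (C.Qb v b) := C.e_mul_idem (C.B_idem v) (C.B_X6 v) b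

theorem Qb_X9 (v b t : F) : Commute (C.Qb v b) (C.X 9 t) :=
  (C.Xe_comm (by simp) t b).symm.mul_left (C.B_X9 v 0 t)

theorem dm_split_B {Q : End ℂ V} (hQ : C.HComm Q) (hi : IsIdempotentElem Q) {v : F} (hv : v ≠ 0) :
    C.nQ Q = ∑ b, dm (Q * C.Qb v b) := by
  rw [← C.line_dm hQ hi v 0 (Or.inl hv), C.split (r := 6) (C.Q_line_idem hQ hi v 0)
    (fun t => (hQ.X (by simp) t).mul_left (C.B_X6 v t))]
  exact Finset.sum_congr rfl fun b _ => by
    rw [Qb, B, ← mul_assoc, ← (hQ.e (by simp) b).eq, mul_assoc]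

variable (h3 : (3 : F) ≠ 0) (hn : C.nQ 1 = Fintype.card F) (h5 : 5 ≤ Fintype.card F)
include h3 hn h5

theorem e6_e9B [DecidableEq F] {v : F} (hv : v ≠ 0) (s b : F) :
    C.e 6 b * (C.e 9 s * C.B v) = if b = s ^ 3 / (27 * v ^ 2) then C.e 9 s * C.B v else 0 := by
  refine C.e_of_eigen (fun t => ?_) b
  set u := -s / (3 * v) with hu
  have hL : C.e 9 s * C.B v = C.cj (x 7 u) (C.P1 v) := by
    rw [P1, C.cj_x7_e9B, hu]
    congr 2
    field_simp
    ring
  have e : (x 7 u)⁻¹ * x 6 t * x 7 u = x 6 t * (x 8 (-(-u * t)) * (x 9 ((-u) ^ 2 * t) *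
      (x 10 ((-u) ^ 3 * t) * x 11 ((-u) ^ 3 * t ^ 2)))) := by
    rw [← c7_6, x_inv, x_inv, neg_neg]
  obtain ⟨p8, p6⟩ := C.P1_fixed h3 hn h5 hv
  have p11 : C.e 11 0 * C.P1 v = C.P1 v := by
    rw [P1, ← mul_assoc, (C.ee_comm (r := 9) (r' := 11) (by simp) 0 0).eq, mul_assoc, C.e11_B]
  have p10 : C.e 10 v * C.P1 v = C.P1 v := by
    rw [P1, ← mul_assoc, (C.ee_comm (r := 9) (r' := 10) (by simp) _ 0).eq, mul_assoc, C.e10_B]
  have p9 : C.e 9 0 * C.P1 v = C.P1 v := by rw [P1, ← mul_assoc, (C.e_idem 9 0).eq]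
  have key : C.ρ ((x 7 u)⁻¹ * x 6 t * x 7 u) * C.P1 v = C.ψ (s ^ 3 / (27 * v ^ 2) * t) • C.P1 v := by
    rw [e]
    simp only [map_mul, mul_assoc]
    show C.X 6 t * (C.X 8 _ * (C.X 9 _ * (C.X 10 _ * (C.X 11 _ * C.P1 v)))) = _
    rw [C.fixed_e p11, C.eigen_e p10, mul_smul_comm, mul_smul_comm, mul_smul_comm, C.fixed_e p9,
      C.fixed_e p8, C.fixed_e p6]
    congr 2
    have h27 : (27 : F) ≠ 0 := by
      rw [show (27 : F) = 3 ^ 3 by norm_num]; exact pow_ne_zero _ h3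
    rw [hu]
    field_simp
    ring
  rw [hL, cj, ← mul_assoc, ← mul_assoc, X, ← map_mul,
    show x 6 t * x 7 u = x 7 u * ((x 7 u)⁻¹ * x 6 t * x 7 u) by group, map_mul, mul_assoc (C.ρ (x 7 u)), key,
    mul_smul_comm, smul_mul_assoc]

theorem dm_Qb [DecidableEq F] {v : F} (hv : v ≠ 0) (b : F) :
    dm (C.Qb v b) = (Finset.univ.filter fun s : F => s ^ 3 = 27 * v ^ 2 * b).card := by
  rw [C.split (r := 9) (C.Qb_idem v b) (C.Qb_X9 v b), Finset.card_filter]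
  refine Finset.sum_congr rfl fun s _ => ?_
  rw [Qb, ← mul_assoc, ← (C.ee_comm (r := 9) (r' := 6) (by simp) b s).eq, mul_assoc, C.e6_e9B h3 hn h5 hv]
  have h27 : (27 : F) * v ^ 2 ≠ 0 := mul_ne_zero (by
    rw [show (27 : F) = 3 ^ 3 by norm_num]; exact pow_ne_zero _ h3) (pow_ne_zero _ hv)
  have h27' : (27 : F) ≠ 0 := left_ne_zero_of_mul h27
  by_cases h : b = s ^ 3 / (27 * v ^ 2)
  · rw [if_pos h, C.dm_e9B h3 hn hv, if_pos]
    rw [h]; field_simp
  · rw [if_neg h, dm_zero, if_neg]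
    intro h'
    exact h (by rw [h']; field_simp)

theorem dm_Qb_zero {v : F} (hv : v ≠ 0) : dm (C.Qb v 0) = 1 := by
  classical
  rw [C.dm_Qb h3 hn h5 hv, Finset.card_eq_one]
  exact ⟨0, by ext s; simp⟩

theorem trace_z_Qb {g : ↥(chevG2.group F)} {k : F} (hk : k ≠ 0) (hk1 : k ≠ 1)
    (hg : ∀ t, g * x 9 t * g⁻¹ = x 9 (k * t)) {v b : F} (hv : v ≠ 0) (hb : b ≠ 0) :
    LinearMap.trace ℂ V (C.ρ g * C.Qb v b) = 0 := by
  classical
  have h27 : (27 : F) * v ^ 2 ≠ 0 := mul_ne_zero (by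
    rw [show (27 : F) = 3 ^ 3 by norm_num]; exact pow_ne_zero _ h3) (pow_ne_zero _ hv)
  rw [← one_mul (C.Qb v b), ← C.e_sum 9, Finset.sum_mul, Finset.mul_sum, map_sum]
  refine Finset.sum_eq_zero fun s _ => ?_
  by_cases hs : s = 0
  · subst hs
    rw [Qb, ← mul_assoc (C.e 9 0), ← (C.ee_comm (r := 9) (r' := 6) (by simp) b 0).eq, mul_assoc (C.e 6 b),
      C.e6_e9B h3 hn h5 hv, if_neg (by simpa using hb), mul_zero, map_zero]
  · have hm : C.ρ g * C.e 9 s = C.e 9 (s / k) * C.ρ g := by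
      rw [← C.cj_e_of_map hk hg, cj, mul_assoc, C.rho_inv, mul_one]
    have hne : s ≠ s / k := fun h => hk1 (by field_simp at h; exact h)
    have hcm : Commute (C.Qb v b) (C.e 9 s) := C.e_comm_op (C.Qb_X9 v b) s
    rw [← (C.e_idem 9 s).eq, mul_assoc, ← hcm.eq, ← mul_assoc, ← mul_assoc, LinearMap.trace_mul_comm, hm,
      ← mul_assoc, ← mul_assoc, C.e_orth 9 hne, zero_mul, zero_mul, map_zero]

theorem dm_Pi_Qb {w : Fˣ} (hw : w ^ 3 = 1) (hw1 : w ≠ 1) {μ : ℂ} (hμ : μ ^ 3 = 1) {v b : F} (hv : v ≠ 0)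
    (hb : b ≠ 0) : 3 * dm (C.Pi w μ * C.Qb v b) = dm (C.Qb v b) := by
  have hPi := C.Pi_idem hw hμ
  have hc : Commute (C.Pi w μ) (C.Qb v b) := ((C.hcomm_Pi hw μ).e (by simp) b).mul_right
    (((C.hcomm_Pi hw μ).e (by simp) v).mul_right ((C.hcomm_Pi hw μ).e (by simp) 0))
  have hI : IsIdempotentElem (C.Pi w μ * C.Qb v b) := hPi.mul_of_commute hc (C.Qb_idem v b)
  have hw2 : ((w : Fˣ) : F) ^ 2 ≠ 1 := by
    intro h
    have h2 : w ^ 2 = 1 := Units.ext (by rw [Units.val_pow_eq_pow_val, h, Units.val_one])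
    exact hw1 (by rw [← hw, pow_succ w 2, h2, one_mul])
  have g1 : ∀ t, zc w * x 9 t * (zc w)⁻¹ = x 9 (((w : Fˣ) : F) ^ 2 * t) := fun t => by
    rw [zc, tau_conj _ _ (by decide)]
    simp [co7, co6]
  have g2 : ∀ t, zc w * zc w * x 9 t * (zc w * zc w)⁻¹ = x 9 (((w : Fˣ) : F) * t) := fun t => by
    rw [show zc w * zc w * x 9 t * (zc w * zc w)⁻¹ = zc w * (zc w * x 9 t * (zc w)⁻¹) * (zc w)⁻¹ by group,
      g1, g1, ← mul_assoc]
    congr 2
    rw [← pow_add, show 2 + 2 = 3 + 1 from rfl, pow_succ, ← Units.val_pow_eq_pow_val, hw, Units.val_one, one_mul]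
  have t1 := C.trace_z_Qb h3 hn h5 (pow_ne_zero 2 (Units.ne_zero w)) hw2 g1 hv hb
  have t2 := C.trace_z_Qb h3 hn h5 (Units.ne_zero w) (fun h => hw1 (Units.ext h)) g2 hv hb
  have e := dm_trace hI
  generalize hd : dm (C.Pi w μ * C.Qb v b) = d at e
  rw [Pi, smul_mul_assoc, map_smul, add_mul, add_mul, one_mul, smul_mul_assoc, smul_mul_assoc, map_add, map_add,
    map_smul, map_smul, t1, ← map_mul C.ρ, t2, smul_zero, smul_zero, add_zero, add_zero, dm_trace (C.Qb_idem v b)] at e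
  have e' : ((3 * d : ℕ) : ℂ) = (dm (C.Qb v b) : ℂ) := by
    rw [Nat.cast_mul]
    rw [← e, smul_eq_mul]
    push_cast
    ring
  exact_mod_cast e'

theorem nQ_Pi_ge {w : Fˣ} (hw : w ^ 3 = 1) (hw1 : w ≠ 1) {μ : ℂ} (hμ : μ ^ 3 = 1) :
    Fintype.card F - 1 ≤ 3 * C.nQ (C.Pi w μ) := by
  classical
  have hsum := C.dm_split_B C.hcomm_one IsIdempotentElem.one (v := (1 : F)) one_ne_zero
  simp only [one_mul, hn] at hsum
  rw [← Finset.add_sum_erase _ _ (Finset.mem_univ (0 : F)), C.dm_Qb_zero h3 hn h5 one_ne_zero] at hsum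
  rw [C.dm_split_B (C.hcomm_Pi hw μ) (C.Pi_idem hw hμ) (v := (1 : F)) one_ne_zero, Finset.mul_sum]
  refine le_trans ?_ (Finset.sum_le_sum_of_subset (Finset.subset_univ (Finset.univ.erase (0 : F))))
  rw [Finset.sum_congr rfl fun b hb => C.dm_Pi_Qb h3 hn h5 hw hw1 hμ one_ne_zero (Finset.ne_of_mem_erase hb)]
  omega

omit hn h5 in
theorem Cp_X5 (t : F) : Commute C.Cp (C.X 5 t) := by
  refine (C.comm_of_cj (g := x 5 t) ?_).symm
  have h10 : ∀ s : F, Commute (C.X 5 t) (C.X 10 s) := fun s => (c5_10 t s).map C.ρ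
  rw [Cp, C.cj_mul, C.cj_eq_self (A := C.e 10 0) (C.e_comm_op h10 0)]
  have : C.cj (x 5 t) (C.e 11 0) * C.e 10 0 = C.e 11 0 * C.e 10 0 := by
    rw [C.cj_e_one (δ := 0) (fun s => x 10 (t * s)) (fun s => c5_11 _ _) (fun s => ?_), sub_zero]
    show C.X 10 _ * _ = _
    rw [C.fixed_e (C.e_idem 10 0).eq, zero_mul, AddChar.map_zero_eq_one, one_smul]
  have hc : Commute (C.cj (x 5 t) (C.e 11 0)) (C.e 10 0) := by
    have := C.ee_comm (r := 10) (r' := 11) (by simp) 0 0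
    have h2 := congrArg (C.cj (x 5 t)) this.eq
    rwa [C.cj_mul, C.cj_mul, C.cj_eq_self (A := C.e 10 0) (C.e_comm_op h10 0)] at h2
  rw [← hc.eq, this, (C.ee_comm (r := 10) (r' := 11) (by simp) 0 0).eq]

end Ctx

end CfsgLib.Chev.G2Min
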