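import Mathlib
import Cfsg.Agent.Lib.Chev.G2Min.OneA

/-!
`q ≡ 1 (mod 3)`: the degree `q³ - 1` is impossible (translates of the fixed space of `X₁₀ X₁₁`).
-/

set_option autoImplicit false
set_option linter.unusedSectionVars false
set_option maxRecDepth 100000
set_option maxHeartbeats 1000000

namespace CfsgLib.Chev.G2Min

open Cfsg.Lie Module

variable {F : Type*} [Field F] [Fintype F] {V : Type*} [AddCommGroup V] [Module ℂ V]
  [FiniteDimensional ℂ V]

open Matrix in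
/-- Transvection. -/
noncomputable def tv {i j : Fin 3} (h : i ≠ j) (t : F) : Matrix.SpecialLinearGroup (Fin 3) F :=
  Matrix.SpecialLinearGroup.transvection h t

theorem coe_tv {i j : Fin 3} (h : i ≠ j) (t : F) :
    (tv h t : Matrix (Fin 3) (Fin 3) F) = Matrix.transvection i j t := rfl

theorem n01 : (0 : Fin 3) ≠ 1 := by decide
theorem n02 : (0 : Fin 3) ≠ 2 := by decide
theorem n10 : (1 : Fin 3) ≠ 0 := by decide
theorem n20 : (2 : Fin 3) ≠ 0 := by decide
theorem n12 : (1 : Fin 3) ≠ 2 := by decide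
theorem n21 : (2 : Fin 3) ≠ 1 := by decide

/-- The translation group. -/
noncomputable def low (v : F × F) : Matrix.SpecialLinearGroup (Fin 3) F := tv n10 v.1 * tv n20 v.2

theorem low_mul (v w : F × F) : low v * low w = low (v + w) := by
  refine Subtype.ext ?_
  simp only [low, Matrix.SpecialLinearGroup.coe_mul, coe_tv]
  ext i j
  fin_cases i <;> fin_cases j <;>
    simp [Matrix.mul_apply, Fin.sum_univ_three, Matrix.transvection, Matrix.single]

theorem low_zero : low ((0, 0) : F × F) = 1 := by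
  refine Subtype.ext ?_
  simp only [low, Matrix.SpecialLinearGroup.coe_mul, coe_tv]
  simp

theorem low_conj {a b : F} (ha : a ≠ 0) (s : F) :
    tv n01 (b / a * s / a) * tv n02 (-(s / a)) * low (a, b) =
      low (a, b) * (tv n01 (b / a * s / a) * tv n02 (-(s / a))) *
        (tv n21 (b / a) * tv n12 s * tv n21 (-(b / a))) := by
  refine Subtype.ext ?_
  simp only [low, Matrix.SpecialLinearGroup.coe_mul, coe_tv]
  ext i j
  fin_cases i <;> fin_cases j <;>
    simp [Matrix.mul_apply, Fin.sum_univ_three, Matrix.transvection, Matrix.single] <;> field_simp <;> ring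

theorem low_conj_zero (b w : F) :
    tv n01 w * low (0, b) = low (0, b) * tv n01 w * tv n21 (-(b * w)) := by
  refine Subtype.ext ?_
  simp only [low, Matrix.SpecialLinearGroup.coe_mul, coe_tv]
  ext i j
  fin_cases i <;> fin_cases j <;>
    simp [Matrix.mul_apply, Fin.sum_univ_three, Matrix.transvection, Matrix.single] <;> ring

theorem exists_cube_root (hq : Fintype.card F % 3 = 1) : ∃ w : Fˣ, w ^ 3 = 1 ∧ w ≠ 1 := by
  classical
  have hd : 3 ∣ Fintype.card Fˣ := by rw [Fintype.card_units]; omega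
  have := Fact.mk Nat.prime_three
  obtain ⟨w, hw⟩ := exists_prime_orderOf_dvd_card 3 hd
  exact ⟨w, by rw [← hw, pow_orderOf_eq_one], fun h => by rw [h, orderOf_one] at hw; omega⟩

theorem three_ne_zero_of_mod (hq : Fintype.card F % 3 ≠ 0) : (3 : F) ≠ 0 := by
  intro h
  obtain ⟨p, hp⟩ := CharP.exists F
  have hd : p ∣ 3 := (CharP.cast_eq_zero_iff F p 3).1 (by exact_mod_cast h)
  obtain ⟨n, hpp, hc⟩ := FiniteField.card F p
  have := (Nat.prime_dvd_prime_iff_eq hpp Nat.prime_three).1 hd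
  subst this
  apply hq
  rw [hc]
  exact Nat.dvd_iff_mod_eq_zero.1 (dvd_pow_self 3 n.ne_zero)

namespace Ctx

variable (C : Ctx F V)

/-- The operators of `SL₃`. -/
noncomputable def S3 : Matrix.SpecialLinearGroup (Fin 3) F →* End ℂ V := C.ρ.comp sl3

theorem S3_tv {i j : Fin 3} (h : i ≠ j) (t : F) :
    C.S3 (tv h t) = C.X (KnownB.G2SL3.rOf i j) ((KnownB.G2SL3.sgn i j : F) * t) := by
  rw [S3, MonoidHom.comp_apply, tv, sl3_tv]; rfl

theorem S3_10 (t : F) : C.S3 (tv n01 t) = C.X 10 t := by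
  rw [S3_tv]; simp [KnownB.G2SL3.rOf, KnownB.G2SL3.sgn]

theorem S3_11 (t : F) : C.S3 (tv n02 t) = C.X 11 (-t) := by
  rw [S3_tv]; simp [KnownB.G2SL3.rOf, KnownB.G2SL3.sgn]

theorem S3_6 (t : F) : C.S3 (tv n12 t) = C.X 6 t := by
  rw [S3_tv]; simp [KnownB.G2SL3.rOf, KnownB.G2SL3.sgn]

theorem S3_5 (t : F) : C.S3 (tv n21 t) = C.X 5 t := by
  rw [S3_tv]; simp [KnownB.G2SL3.rOf, KnownB.G2SL3.sgn]

theorem X10_Cp (t : F) : C.X 10 t * C.Cp = C.Cp :=
  C.fixed_e (by rw [Cp, ← mul_assoc, (C.e_idem 10 0).eq]) t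

theorem X11_Cp (t : F) : C.X 11 t * C.Cp = C.Cp :=
  C.fixed_e (by
    rw [Cp, (C.ee_comm (r := 11) (r' := 10) (by simp) 0 0).eq, ← mul_assoc, (C.e_idem 11 0).eq]) t

/-- A one-parameter group commutes with its projections. -/
theorem e_X_self (r : ℕ) (s t : F) : Commute (C.e r s) (C.X r t) :=
  (C.e_comm_op (fun b => by
    show C.X r t * C.X r b = C.X r b * C.X r t
    rw [← (C.par r).add, ← (C.par r).add, add_comm]) s).symm

theorem cj_smul (g : ↥(chevG2.group F)) (c : ℂ) (A : End ℂ V) : C.cj g (c • A) = c • C.cj g A := by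
  simp only [cj, mul_smul_comm, smul_mul_assoc]

theorem Cp_X10 (t : F) : Commute C.Cp (C.X 10 t) :=
  (C.e_X_self 10 0 t).mul_left (C.e11_comm10 0 t)

theorem Cp_X11 (t : F) : Commute C.Cp (C.X 11 t) :=
  (C.Xe_comm (by simp) t 0).symm.mul_left (C.e_X_self 11 0 t)

theorem tau_Cp (a b : Fˣ) : C.cj (tau a b) C.Cp = C.Cp := by
  rw [Cp, C.cj_mul, C.cj_tau _ _ (by decide), C.cj_tau _ _ (by decide), zero_div, zero_div]

theorem cj_tau_L (a : F) (y : Fˣ) :
    C.cj (tau 1 y) (C.e 6 a * C.Cp) = C.e 6 (a / (y : F)) * C.Cp := by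
  rw [C.cj_mul, C.tau_Cp, C.cj_tau _ _ (by decide)]
  simp [co7, co6]

variable (h3 : (3 : F) ≠ 0) (hn : C.nQ 1 = Fintype.card F) (h5 : 5 ≤ Fintype.card F)
  (hk : finrank ℂ V ≤ Fintype.card F ^ 3)
include h3 hn h5

theorem L_idem (a : F) : IsIdempotentElem (C.e 6 a * C.Cp) := C.e_mul_idem C.Cp_idem (C.Cp_X6 h3 hn h5) a

include hk

theorem bound_facts : (∀ a : F, a ≠ 0 → dm (C.e 6 a * C.Cp) = 1) ∧ dm (C.e 6 0 * C.Cp) ≤ 1 ∧
    dm C.Cp = Fintype.card F - 1 + dm (C.e 6 0 * C.Cp) ∧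
    finrank ℂ V = (Fintype.card F ^ 2 - 1) * Fintype.card F + dm C.Cp := by
  classical
  have ht := C.dm_total C.hcomm_one IsIdempotentElem.one
  rw [dm_one, one_mul, hn] at ht
  have hD : dm C.Cp ≤ Fintype.card F := by
    have e : Fintype.card F ^ 3 = (Fintype.card F ^ 2 - 1) * Fintype.card F + Fintype.card F := by
      have hq2 : Fintype.card F ^ 2 - 1 + 1 = Fintype.card F ^ 2 := Nat.succ_pred_eq_of_pos (pow_pos (by omega) 2)
      conv_lhs => rw [pow_succ, ← hq2]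
      ring
    omega
  have hs := C.dm_Cp_eq h3 hn h5
  rw [← Finset.add_sum_erase _ _ (Finset.mem_univ (0 : F))] at hs
  have hconst : ∀ a : F, a ≠ 0 → dm (C.e 6 a * C.Cp) = dm (C.e 6 1 * C.Cp) := by
    intro a ha
    rw [← C.dm_cj (g := tau 1 (Units.mk0 a ha)) (C.L_idem h3 hn h5 a), C.cj_tau_L, Units.val_mk0, div_self ha]
  rw [Finset.sum_congr rfl fun a ha => hconst a (Finset.ne_of_mem_erase ha), Finset.sum_const, smul_eq_mul,
    Finset.card_erase_of_mem (Finset.mem_univ _), Finset.card_univ] at hs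
  have h1 := C.C6_pos h3 hn h5 (one_ne_zero (α := F))
  have : dm (C.e 6 1 * C.Cp) = 1 := by
    by_contra hne
    have : (Fintype.card F - 1) * 2 ≤ (Fintype.card F - 1) * dm (C.e 6 1 * C.Cp) := by gcongr; omega
    omega
  rw [this, mul_one] at hs
  exact ⟨fun a ha => (hconst a ha).trans this, by omega, by omega, ht⟩

theorem L_comm_H {Q : End ℂ V} (hQ : C.HComm Q) (a : F) : Commute Q (C.e 6 a * C.Cp) :=
  (hQ.e (by simp) a).mul_right ((hQ.e (by simp) 0).mul_right (hQ.e (by simp) 0))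

/-- An operator commuting with `SL₃` acts by one scalar on the lines of non-trivial characters. -/
theorem scalar_on_lines {Q : End ℂ V} (hQ : C.HComm Q) :
    ∃ c : ℂ, ∀ a : F, a ≠ 0 → Q * (C.e 6 a * C.Cp) = c • (C.e 6 a * C.Cp) := by
  obtain ⟨hL, -⟩ := C.bound_facts h3 hn h5 hk
  obtain ⟨c, hc⟩ := scalar_of_rank_one (C.L_idem h3 hn h5 1) (hL 1 one_ne_zero) (C.L_comm_H h3 hn h5 hk hQ 1)
  refine ⟨c, fun a ha => ?_⟩
  have := congrArg (C.cj (tau 1 (Units.mk0 a ha)⁻¹)) hc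
  rw [C.cj_mul, hQ.cj (tau_mem_range _ _), C.cj_smul, C.cj_tau_L,
    Units.val_inv_eq_inv_val, Units.val_mk0, one_div, inv_inv] at this
  exact this

theorem not_c_zero (hq : Fintype.card F % 3 = 1) : dm (C.e 6 0 * C.Cp) ≠ 0 := by
  classical
  intro h0
  obtain ⟨hL, -, hD, hkk⟩ := C.bound_facts h3 hn h5 hk
  obtain ⟨w, hw, hw1⟩ := exists_cube_root hq
  obtain ⟨η, hη⟩ := C.scalar_on_lines h3 hn h5 hk (C.hcomm_zc hw)
  have hL0 : C.e 6 0 * C.Cp = 0 := eq_zero_of_dm h0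
  have hCp : C.Cp = ∑ a, C.e 6 a * C.Cp := by rw [← Finset.sum_mul, C.e_sum, one_mul]
  have hZ : C.ρ (zc w) * C.Cp = η • C.Cp := by
    conv_lhs => rw [hCp]
    conv_rhs => rw [hCp]
    rw [Finset.mul_sum, Finset.smul_sum]
    refine Finset.sum_congr rfl fun a _ => ?_
    by_cases ha : a = 0
    · rw [ha, hL0, mul_zero, smul_zero]
    · exact hη a ha
  have hCp0 : C.Cp ≠ 0 := fun h => by rw [h, dm_zero] at hD; omega
  have hη3 : η ^ 3 = 1 := by
    have e : (η ^ 3) • C.Cp = (1 : ℂ) • C.Cp := by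
      rw [one_smul]
      calc (η ^ 3) • C.Cp = C.ρ (zc w) * C.ρ (zc w) * C.ρ (zc w) * C.Cp := by
            simp only [mul_assoc, hZ, mul_smul_comm, smul_smul]
            congr 1
            ring
        _ = C.Cp := by rw [C.zc_cube hw, one_mul]
    exact smul_left_injective ℂ hCp0 e
  obtain ⟨ζ, hζ⟩ : ∃ ζ : ℂ, IsPrimitiveRoot ζ 3 := ⟨_, Complex.isPrimitiveRoot_exp 3 (by norm_num)⟩
  obtain ⟨μ, hμ, hμη⟩ : ∃ μ : ℂ, μ ^ 3 = 1 ∧ μ ≠ η := by
    by_cases h : η = 1
    · exact ⟨ζ, hζ.pow_eq_one, h ▸ hζ.ne_one (by norm_num)⟩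
    · exact ⟨1, one_pow 3, Ne.symm h⟩
  have hμ0 : μ ≠ 0 := fun h => by rw [h] at hμ; norm_num at hμ
  have hP : C.Pi w μ * C.Cp = 0 := by
    rw [C.Pi_mul hZ]
    have hr : (η / μ) ^ 3 = 1 := by rw [div_pow, hη3, hμ, div_one]
    have hr1 : η / μ ≠ 1 := fun h => hμη (by rwa [div_eq_one_iff_eq hμ0, eq_comm] at h)
    have : 1 + η / μ + η / μ * (η / μ) = 0 := by
      have : (η / μ - 1) * (1 + η / μ + η / μ * (η / μ)) = 0 := by linear_combination hr
      exact (mul_eq_zero.1 this).resolve_left (sub_ne_zero.2 hr1)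
    rw [this, mul_zero, zero_smul]
  have hPi := C.Pi_idem hw hμ
  have hPH := C.hcomm_Pi hw μ
  have hdim := C.dm_total hPH hPi
  rw [hP, dm_zero, add_zero] at hdim
  -- the translates
  have sumX : ∀ r : ℕ, ∑ t, C.X r t = (Fintype.card F : ℂ) • C.e r 0 := fun r => by
    rw [e, pe, smul_smul, mul_inv_cancel₀ (by simp), one_smul]
    exact Finset.sum_congr rfl fun t _ => by rw [zero_mul, neg_zero, AddChar.map_zero_eq_one, one_smul]
  have e5 : C.e 5 0 * C.Cp = 0 := by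
    obtain ⟨e', he', h6⟩ := n6_conj (F := F) 6 5 (by simp)
    have ne' : e' ≠ 0 := by rcases he' with rfl | rfl <;> simp
    have hfix : C.cj (nw 6) C.Cp = C.Cp := by
      refine C.cj_eq_self ?_
      rw [nw, map_mul, map_mul, show chevG2.neg 6 = 5 from by decide +kernel]
      exact ((C.Cp_X6 h3 hn h5 1).symm.mul_left (C.Cp_X5 h3 (-1)).symm).mul_left (C.Cp_X6 h3 hn h5 1).symm
    have := congrArg (C.cj (nw 6)) hL0
    rwa [C.cj_mul, hfix, C.cj_e_of_map ne' h6, zero_div, cj, mul_zero, zero_mul] at this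
  have hzero : ∀ v : F × F, v ≠ 0 → C.Cp * C.S3 (low v) * C.Cp = 0 := by
    rintro ⟨a, b⟩ hv
    have absorb : ∀ h u, C.S3 h * C.Cp = C.Cp → Commute C.Cp (C.S3 h) → Commute C.Cp (C.S3 u) →
        h * low (a, b) = low (a, b) * h * u →
        C.Cp * C.S3 (low (a, b)) * C.Cp = C.Cp * C.S3 (low (a, b)) * C.S3 u * C.Cp := by
      intro h u hh hch hcu e
      have hh' : C.Cp * C.S3 h = C.Cp := by rw [hch.eq, hh]
      calc C.Cp * C.S3 (low (a, b)) * C.Cp = C.Cp * C.S3 h * C.S3 (low (a, b)) * C.Cp := by rw [hh']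
        _ = C.Cp * C.S3 (h * low (a, b)) * C.Cp := by rw [map_mul]; simp only [mul_assoc]
        _ = C.Cp * C.S3 (low (a, b)) * (C.S3 h * (C.S3 u * C.Cp)) := by
            rw [e, map_mul, map_mul]; simp only [mul_assoc]
        _ = C.Cp * C.S3 (low (a, b)) * (C.S3 h * (C.Cp * C.S3 u)) := by rw [hcu.eq]
        _ = C.Cp * C.S3 (low (a, b)) * (C.Cp * C.S3 u) := by rw [← mul_assoc (C.S3 h), hh]
        _ = _ := by rw [hcu.eq]; simp only [mul_assoc]
    have hq0 : (Fintype.card F : ℂ) ≠ 0 := by simp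
    by_cases ha : a = 0
    · subst ha
      have hb : b ≠ 0 := fun h => hv (by rw [h]; rfl)
      have key : ∀ t, C.Cp * C.S3 (low (0, b)) * C.Cp = C.Cp * C.S3 (low (0, b)) * C.X 5 t * C.Cp := by
        intro t
        have := absorb (tv n01 (-t / b)) (tv n21 (-(b * (-t / b))))
          (by rw [S3_10, X10_Cp]) (by rw [S3_10]; exact C.Cp_X10 _)
          (by rw [S3_5]; exact C.Cp_X5 h3 _) (low_conj_zero b _)
        rwa [S3_5, show -(b * (-t / b)) = t by field_simp] at this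
      have hsum : (Fintype.card F : ℂ) • (C.Cp * C.S3 (low (0, b)) * C.Cp) = 0 := by
        calc (Fintype.card F : ℂ) • (C.Cp * C.S3 (low (0, b)) * C.Cp)
            = ∑ _t : F, C.Cp * C.S3 (low (0, b)) * C.Cp := by
              rw [Finset.sum_const, Finset.card_univ, Nat.cast_smul_eq_nsmul]
          _ = ∑ t : F, C.Cp * C.S3 (low (0, b)) * C.X 5 t * C.Cp := Finset.sum_congr rfl fun t _ => key t
          _ = C.Cp * C.S3 (low (0, b)) * ((∑ t : F, C.X 5 t) * C.Cp) := by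
              rw [Finset.sum_mul, Finset.mul_sum]; simp only [mul_assoc]
          _ = 0 := by rw [sumX, smul_mul_assoc, e5, smul_zero, mul_zero]
      exact (smul_eq_zero.1 hsum).resolve_left hq0
    · have key : ∀ t, C.Cp * C.S3 (low (a, b)) * C.Cp =
          C.Cp * C.S3 (low (a, b)) * (C.X 5 (b / a) * C.X 6 t * C.X 5 (-(b / a))) * C.Cp := by
        intro t
        have := absorb (tv n01 (b / a * t / a) * tv n02 (-(t / a))) (tv n21 (b / a) * tv n12 t * tv n21 (-(b / a)))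
          (by rw [map_mul, mul_assoc, S3_11, X11_Cp, S3_10, X10_Cp])
          (by rw [map_mul, S3_11, S3_10]; exact (C.Cp_X10 _).mul_right (C.Cp_X11 _))
          (by
            rw [map_mul, map_mul, S3_5, S3_6, S3_5]
            exact ((C.Cp_X5 h3 _).mul_right (C.Cp_X6 h3 hn h5 _)).mul_right (C.Cp_X5 h3 _))
          (low_conj ha t)
        rwa [map_mul, map_mul, S3_5, S3_6, S3_5] at this
      have hsum : (Fintype.card F : ℂ) • (C.Cp * C.S3 (low (a, b)) * C.Cp) = 0 := by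
        calc (Fintype.card F : ℂ) • (C.Cp * C.S3 (low (a, b)) * C.Cp)
            = ∑ _t : F, C.Cp * C.S3 (low (a, b)) * C.Cp := by
              rw [Finset.sum_const, Finset.card_univ, Nat.cast_smul_eq_nsmul]
          _ = ∑ t : F, C.Cp * C.S3 (low (a, b)) * (C.X 5 (b / a) * C.X 6 t * C.X 5 (-(b / a))) * C.Cp :=
              Finset.sum_congr rfl fun t _ => key t
          _ = C.Cp * C.S3 (low (a, b)) * (C.X 5 (b / a) * ((∑ t : F, C.X 6 t) * (C.X 5 (-(b / a)) * C.Cp))) := by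
              rw [Finset.sum_mul, Finset.mul_sum, Finset.mul_sum]; simp only [mul_assoc]
          _ = 0 := by
              rw [sumX, ← (C.Cp_X5 h3 (-(b / a))).eq, smul_mul_assoc, ← mul_assoc (C.e 6 0), hL0, zero_mul,
                smul_zero, mul_zero, mul_zero]
      exact (smul_eq_zero.1 hsum).resolve_left hq0
  have inv_low : ∀ v : F × F, (sl3 (low v))⁻¹ = sl3 (low (-v)) := fun v => by
    refine inv_eq_of_mul_eq_one_right ?_
    rw [← map_mul, low_mul, add_neg_cancel, show (0 : F × F) = (0, 0) from rfl, low_zero, map_one]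
  let T : F × F → End ℂ V := fun v => C.cj (sl3 (low v)) C.Cp
  have horth : ∀ v v', v ≠ v' → T v * T v' = 0 := by
    intro v v' hne
    simp only [T, cj, inv_low]
    calc C.S3 (low v) * C.Cp * C.S3 (low (-v)) * (C.S3 (low v') * C.Cp * C.S3 (low (-v')))
        = C.S3 (low v) * (C.Cp * C.S3 (low (-v) * low v') * C.Cp) * C.S3 (low (-v')) := by
          rw [map_mul]; simp only [mul_assoc]
      _ = 0 := by
          rw [low_mul, hzero _ (by rwa [Ne, neg_add_eq_zero]), mul_zero, zero_mul]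
  have hTi : ∀ v, IsIdempotentElem (T v) := fun v => C.cj_idem C.Cp_idem
  have hTP : ∀ v, C.Pi w μ * T v = 0 ∧ T v * C.Pi w μ = 0 := by
    intro v
    have hcC : Commute (C.Pi w μ) C.Cp := (hPH.e (by simp) 0).mul_right (hPH.e (by simp) 0)
    have e1 : C.Pi w μ * T v = C.cj (sl3 (low v)) (C.Pi w μ * C.Cp) := by
      rw [C.cj_mul, hPH.cj (g := sl3 (low v)) ⟨low v, rfl⟩]
    have e2 : T v * C.Pi w μ = C.cj (sl3 (low v)) (C.Cp * C.Pi w μ) := by
      rw [C.cj_mul, hPH.cj (g := sl3 (low v)) ⟨low v, rfl⟩]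
    rw [e1, e2, ← hcC.eq, hP]
    simp [cj]
  have hsumI : ∀ s : Finset (F × F), IsIdempotentElem (∑ v ∈ s, T v) := by
    intro s
    show (∑ v ∈ s, T v) * (∑ v ∈ s, T v) = _
    rw [Finset.sum_mul]
    refine Finset.sum_congr rfl fun v hv => ?_
    rw [Finset.mul_sum, Finset.sum_eq_single_of_mem v hv fun v' _ hne => horth v v' hne.symm, (hTi v).eq]
  have hTdm : dm (∑ v, T v) = Fintype.card F * Fintype.card F * dm C.Cp := by
    rw [dm_sum Finset.univ (hsumI _) (fun v _ => hTi v) rfl,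
      Finset.sum_congr rfl fun v _ => C.dm_cj C.Cp_idem, Finset.sum_const, Finset.card_univ, Fintype.card_prod,
      smul_eq_mul]
  have hT0 : (∑ v, T v) * C.Pi w μ = 0 ∧ C.Pi w μ * (∑ v, T v) = 0 := by
    rw [Finset.sum_mul, Finset.mul_sum]
    exact ⟨Finset.sum_eq_zero fun v _ => (hTP v).2, Finset.sum_eq_zero fun v _ => (hTP v).1⟩
  have hR : IsIdempotentElem ((∑ v, T v) + C.Pi w μ) := by
    show _ * _ = _
    rw [add_mul, mul_add, mul_add, (hsumI _).eq, hPi.eq, hT0.1, hT0.2, add_zero, zero_add]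
  have hRdm := dm_sum (V := V) (Finset.univ : Finset Bool) (Q := fun b => cond b (∑ v, T v) (C.Pi w μ)) hR
    (fun b _ => by cases b <;> simp [hsumI, hPi]) (by simp)
  rw [Fintype.sum_bool] at hRdm
  simp only [cond_true, cond_false] at hRdm
  have hle := dm_le_k (V := V) (Q := (∑ v, T v) + C.Pi w μ)
  rw [hRdm, hTdm, hdim, hkk, hD, h0, add_zero] at hle
  have hμn := C.nQ_Pi_ge h3 hn h5 hw hw1 hμ
  obtain ⟨q, hq'⟩ : ∃ q, Fintype.card F = q + 5 := ⟨_, (Nat.sub_add_cancel h5).symm⟩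
  rw [hq', show (q + 5) ^ 2 - 1 = q ^ 2 + 10 * q + 24 by ring_nf; omega, show q + 5 - 1 = q + 4 by omega] at hle
  rw [hq', show q + 5 - 1 = q + 4 by omega] at hμn
  nlinarith

end Ctx

end CfsgLib.Chev.G2Min
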