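import Mathlib
import Cfsg.Agent.Lib.Chev.G2Min.OneB
import Cfsg.Agent.Lib.Char.Integral
import Cfsg.Agent.Lib.Classical.SLOrder

/-!
`q ≡ 1 (mod 3)`: the degree `q³` is impossible (an irreducible constituent of `SL₃` would have a degree not
dividing the order).
-/

set_option autoImplicit false
set_option linter.unusedSectionVars false
set_option maxRecDepth 100000
set_option maxHeartbeats 1000000

namespace CfsgLib.Chev.G2Min

open Cfsg.Lie Module

variable {F : Type*} [Field F] [Fintype F] {V : Type*} [AddCommGroup V] [Module ℂ V]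
  [FiniteDimensional ℂ V]

omit [FiniteDimensional ℂ V] in
/-- An invariant subspace is the image of an equivariant idempotent. -/
theorem exists_equivariant {H : Type*} [Group H] [Fintype H] (σ : H →* End ℂ V) (S : Submodule ℂ V)
    (hS : ∀ h, ∀ v ∈ S, σ h v ∈ S) :
    ∃ π : End ℂ V, IsIdempotentElem π ∧ (∀ h, Commute π (σ h)) ∧ (∀ v, π v ∈ S) ∧ ∀ v ∈ S, π v = v := by
  obtain ⟨f, hf⟩ := S.subtype.exists_leftInverse_of_injective (Submodule.ker_subtype S)
  let p : End ℂ V := S.subtype ∘ₗ f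
  have hp1 : ∀ v, p v ∈ S := fun v => (f v).2
  have hp2 : ∀ v ∈ S, p v = v := fun v hv => congrArg Subtype.val (LinearMap.congr_fun hf ⟨v, hv⟩)
  let π : End ℂ V := (Fintype.card H : ℂ)⁻¹ • ∑ h, σ h * p * σ h⁻¹
  have h1 : ∀ v, π v ∈ S := fun v => by
    simp only [π, LinearMap.smul_apply, LinearMap.sum_apply, Module.End.mul_apply]
    exact S.smul_mem _ (Submodule.sum_mem _ fun h _ => hS h _ (hp1 _))
  have h2 : ∀ v ∈ S, π v = v := fun v hv => by
    simp only [π, LinearMap.smul_apply, LinearMap.sum_apply, Module.End.mul_apply]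
    have : ∀ h, σ h (p (σ h⁻¹ v)) = v := fun h => by
      rw [hp2 _ (hS _ v hv), ← Module.End.mul_apply, ← map_mul, mul_inv_cancel, map_one, Module.End.one_apply]
    rw [Finset.sum_congr rfl fun h _ => this h, Finset.sum_const, Finset.card_univ, ← Nat.cast_smul_eq_nsmul ℂ,
      smul_smul, inv_mul_cancel₀ (by simp), one_smul]
  refine ⟨π, LinearMap.ext fun v => h2 _ (h1 v), fun k => ?_, h1, h2⟩
  show π * σ k = σ k * π
  simp only [π, smul_mul_assoc, mul_smul_comm, Finset.sum_mul, Finset.mul_sum]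
  congr 1
  refine Fintype.sum_equiv (Equiv.mulLeft k⁻¹) _ _ fun h => ?_
  simp only [Equiv.coe_mulLeft, _root_.mul_inv_rev, inv_inv, map_mul]
  rw [← mul_assoc (σ k), ← mul_assoc (σ k), ← mul_assoc (σ k), ← map_mul σ k k⁻¹, mul_inv_cancel, map_one, one_mul]
  simp only [mul_assoc]

theorem n7_conj15 : ∃ e : F, (e = 1 ∨ e = -1) ∧ ∀ t, nw 7 * x 1 t * (nw 7)⁻¹ = x 5 (e * t) := by
  rw [← simple0]
  exact nw_conj (by decide) (by decide) _ (by decide +kernel)

theorem n7_normal {g : ↥(chevG2.group F)} (hg : g ∈ (sl3 (F := F)).range) :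
    (nw 7)⁻¹ * g * nw 7 ∈ (sl3 (F := F)).range := by
  refine range_induction (P := fun g => (nw 7)⁻¹ * g * nw 7 ∈ (sl3 (F := F)).range) (fun {i j} hij t => ?_)
    (by simp [one_mem]) (fun a b ha hb => by
      have e : (nw 7)⁻¹ * (a * b) * nw 7 = (nw 7)⁻¹ * a * nw 7 * ((nw 7)⁻¹ * b * nw 7) := by group
      rw [e]; exact mul_mem ha hb)
    (fun a ha => by
      have e : (nw 7)⁻¹ * a⁻¹ * nw 7 = ((nw 7)⁻¹ * a * nw 7)⁻¹ := by group
      rw [e]; exact inv_mem ha) hg
  have hl := rOf_long hij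
  rw [sl3_tv]
  generalize KnownB.G2SL3.rOf i j = r at hl ⊢
  generalize (KnownB.G2SL3.sgn i j : F) * t = u
  have step : ∀ s, s ∈ [0, 1, 5, 6, 10, 11] → (∃ e : F, (e = 1 ∨ e = -1) ∧ ∀ t, nw 7 * x s t * (nw 7)⁻¹ = x r (e * t)) →
      (nw 7)⁻¹ * x r u * nw 7 ∈ (sl3 (F := F)).range := by
    rintro s hs ⟨e, he, h⟩
    have := h (e * u)
    rw [← mul_assoc e, show e * e = 1 by rcases he with rfl | rfl <;> ring, one_mul] at this
    rw [← this]
    have e' : (nw 7)⁻¹ * (nw 7 * x s (e * u) * (nw 7)⁻¹) * nw 7 = x s (e * u) := by group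
    rw [e']
    exact long_mem_range hs _
  simp only [List.mem_cons, List.not_mem_nil, or_false] at hl
  rcases hl with rfl | rfl | rfl | rfl | rfl | rfl
  · exact step 0 (by simp) (n7_conj 0 0 (by simp))
  · exact step 5 (by simp) (n7_conj 5 1 (by simp))
  · exact step 1 (by simp) n7_conj15
  · exact step 10 (by simp) (n7_conj 10 6 (by simp))
  · exact step 6 (by simp) (n7_conj 6 10 (by simp))
  · exact step 11 (by simp) (n7_conj 11 11 (by simp))

theorem cube_set_card [DecidableEq F] {w : Fˣ} (hw : w ^ 3 = 1) (hw1 : w ≠ 1) :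
    (Finset.univ.filter fun s : F => s ^ 3 = 1).card = 3 := by
  have hp : IsPrimitiveRoot (w : F) 3 := by
    refine IsPrimitiveRoot.coe_units_iff.2 ?_
    rw [IsPrimitiveRoot.iff_orderOf]
    have := Fact.mk Nat.prime_three
    exact orderOf_eq_prime hw hw1
  rw [show (Finset.univ.filter fun s : F => s ^ 3 = 1) = Polynomial.nthRootsFinset 3 (1 : F) by
    ext s; simp [Polynomial.mem_nthRootsFinset]]
  exact hp.card_nthRootsFinset

theorem no_div_one {q : ℕ} (h : 7 ≤ q) :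
    ¬ ((q ^ 2 - 1) * 1 + q) ∣ q ^ 3 * ((q ^ 3 - 1) * (q ^ 2 - 1)) := by
  intro hd
  obtain ⟨r, rfl⟩ : ∃ r, q = r + 7 := ⟨q - 7, by omega⟩
  set x := ((r + 7) ^ 2 - 1) * 1 + (r + 7) with hx
  have h2 : (r + 7) ^ 2 - 1 = r ^ 2 + 14 * r + 48 := by ring_nf; omega
  have h3 : (r + 7) ^ 3 - 1 = (r + 6) * ((r + 7) ^ 2 + (r + 7) + 1) := by
    have : (r + 6) * ((r + 7) ^ 2 + (r + 7) + 1) + 1 = (r + 7) ^ 3 := by ring
    omega
  have hxv : x = (r + 7) ^ 2 + (r + 7) - 1 := by rw [hx, h2]; ring_nf; omega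
  have hxz : ((x : ℕ) : ℤ) = ((r : ℤ) + 7) ^ 2 + ((r : ℤ) + 7) - 1 := by
    rw [hxv, Nat.cast_sub (by nlinarith)]
    push_cast; ring
  have hd' : (x : ℤ) ∣ ((r : ℤ) + 7) ^ 3 * (((r : ℤ) + 6) * (((r : ℤ) + 7) ^ 2 + ((r : ℤ) + 7) + 1) *
      (((r : ℤ) + 7) ^ 2 - 1)) := by
    have := Int.natCast_dvd_natCast.2 hd
    rw [h3, h2] at this
    push_cast at this ⊢
    convert this using 2
    ring
  rw [hxz] at hd'
  set Q : ℤ := (r : ℤ) + 7
  have hQ : (7 : ℤ) ≤ Q := by simp [Q]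
  set X : ℤ := Q ^ 2 + Q - 1
  have c1 : IsCoprime X Q := ⟨-1, Q + 1, by simp only [X]; ring⟩
  have c2 : IsCoprime X (Q ^ 2 - 1) := by
    have : IsCoprime Q (Q ^ 2 - 1) := ⟨Q, -1, by ring⟩
    obtain ⟨a, b, hab⟩ := this
    exact ⟨a, b - a, by simp only [X]; linear_combination hab⟩
  have hr6 : (r : ℤ) + 6 = Q - 1 := by simp [Q]; ring
  have c3 : IsCoprime X (Q - 1) := ⟨1, -(Q + 2), by simp only [X]; ring⟩
  have hd2 : X ∣ Q ^ 2 + Q + 1 := by
    have h1 : X ∣ ((r : ℤ) + 6) * (Q ^ 2 + Q + 1) * (Q ^ 2 - 1) := (c1.pow_right).dvd_of_dvd_mul_left hd'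
    rw [hr6] at h1
    exact c3.dvd_of_dvd_mul_left (c2.dvd_of_dvd_mul_right h1)
  have h4 : X ∣ 2 := by
    have := dvd_sub hd2 (dvd_refl X)
    rwa [show Q ^ 2 + Q + 1 - X = 2 by simp only [X]; ring] at this
  have := Int.le_of_dvd (by norm_num) h4
  nlinarith

theorem no_div_two {q n : ℕ} (h : 7 ≤ q) (hn : 3 * n = q + 2) :
    ¬ ((q ^ 2 - 1) * n + q) ∣ q ^ 3 * ((q ^ 3 - 1) * (q ^ 2 - 1)) := by
  intro hd
  have h1 : 1 ≤ q ^ 2 := Nat.one_le_pow _ _ (by omega)
  have h1' : 1 ≤ q ^ 3 := Nat.one_le_pow _ _ (by omega)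
  set y := (q ^ 2 - 1) * (q + 2) + 3 * q with hy
  have hy3 : y = 3 * ((q ^ 2 - 1) * n + q) := by rw [hy, ← hn]; ring
  have hd' : y ∣ 3 * (q ^ 3 * ((q - 1) * ((q - 1) * ((q + 1) * (q ^ 2 + q + 1))))) := by
    rw [hy3]
    refine Nat.mul_dvd_mul_left 3 ?_
    obtain ⟨r, rfl⟩ : ∃ r, q = r + 1 := ⟨q - 1, by omega⟩
    rw [Nat.add_sub_cancel]
    have e2 : (r + 1) ^ 2 - 1 = r * (r + 2) := by
      have : r * (r + 2) + 1 = (r + 1) ^ 2 := by ring
      omega
    have e3 : (r + 1) ^ 3 - 1 = r * ((r + 1) ^ 2 + (r + 1) + 1) := by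
      have : r * ((r + 1) ^ 2 + (r + 1) + 1) + 1 = (r + 1) ^ 3 := by ring
      omega
    rw [e3, e2] at hd
    rw [show (r + 1) ^ 3 * (r * (r * ((r + 1 + 1) * ((r + 1) ^ 2 + (r + 1) + 1)))) =
      (r + 1) ^ 3 * (r * ((r + 1) ^ 2 + (r + 1) + 1) * (r * (r + 2))) by ring]
    rw [e2] at hy3 ⊢
    exact hd
  -- the common divisors of `y` with the factors
  have hz : (y : ℤ) = (q : ℤ) ^ 3 + 2 * (q : ℤ) ^ 2 + 2 * q - 2 := by
    rw [hy]; push_cast [Nat.cast_sub h1]; ring
  have g0 : Nat.gcd y q ∣ 2 := Int.natCast_dvd_natCast.1 (by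
    have a := Int.natCast_dvd_natCast.2 (Nat.gcd_dvd_left y q)
    have b := Int.natCast_dvd_natCast.2 (Nat.gcd_dvd_right y q)
    rw [hz] at a
    have := dvd_sub (b.mul_left ((q : ℤ) ^ 2 + 2 * q + 2)) a
    refine dvd_trans this (dvd_of_eq ?_)
    push_cast; ring)
  have g1 : Nat.gcd y (q - 1) ∣ 3 := Int.natCast_dvd_natCast.1 (by
    have a := Int.natCast_dvd_natCast.2 (Nat.gcd_dvd_left y (q - 1))
    have b := Int.natCast_dvd_natCast.2 (Nat.gcd_dvd_right y (q - 1))
    rw [Nat.cast_sub (show 1 ≤ q by omega)] at b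
    rw [hz] at a
    have := dvd_sub a (b.mul_left ((q : ℤ) ^ 2 + 3 * q + 5))
    refine dvd_trans this (dvd_of_eq ?_)
    push_cast; ring)
  have g2 : Nat.gcd y (q + 1) ∣ 3 := Int.natCast_dvd_natCast.1 (by
    have a := Int.natCast_dvd_natCast.2 (Nat.gcd_dvd_left y (q + 1))
    have b := Int.natCast_dvd_natCast.2 (Nat.gcd_dvd_right y (q + 1))
    rw [hz] at a
    push_cast at b
    have := dvd_sub (b.mul_left ((q : ℤ) ^ 2 + q + 1)) a
    refine dvd_trans this (dvd_of_eq ?_)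
    push_cast; ring)
  have g3 : Nat.gcd y (q ^ 2 + q + 1) ∣ 3 := Int.natCast_dvd_natCast.1 (by
    have a := Int.natCast_dvd_natCast.2 (Nat.gcd_dvd_left y (q ^ 2 + q + 1))
    have b := Int.natCast_dvd_natCast.2 (Nat.gcd_dvd_right y (q ^ 2 + q + 1))
    rw [hz] at a
    push_cast at b
    have := dvd_sub (b.mul_left ((q : ℤ) + 1)) a
    refine dvd_trans this (dvd_of_eq ?_)
    push_cast; ring)
  have hy1944 : y ∣ 3 * (8 * (3 * (3 * (3 * 3)))) := by
    have step : ∀ {a b A B : ℕ}, Nat.gcd y a ∣ A → Nat.gcd y b ∣ B → Nat.gcd y (a * b) ∣ A * B :=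
      fun {a b A B} ha hb => (gcd_mul_dvd_mul_gcd y a b).trans (Nat.mul_dvd_mul ha hb)
    have g00 : Nat.gcd y (q ^ 3) ∣ 8 := by
      rw [show q ^ 3 = q * (q * q) by ring]
      exact step g0 (step g0 g0)
    have g3' : Nat.gcd y 3 ∣ 3 := Nat.gcd_dvd_right _ _
    have := step g3' (step g00 (step g1 (step g1 (step g2 g3))))
    rwa [Nat.gcd_eq_left hd'] at this
  have hle := Nat.le_of_dvd (by norm_num) hy1944
  have hq12 : q ≤ 12 := by
    by_contra hq
    have : (13 : ℕ) ^ 2 ≤ q ^ 2 := Nat.pow_le_pow_left (by omega) 2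
    have h2 : 168 * 15 ≤ (q ^ 2 - 1) * (q + 2) := Nat.mul_le_mul (by omega) (by omega)
    omega
  interval_cases q <;> first | omega | (norm_num [hy] at hy1944)

namespace Ctx

variable (C : Ctx F V)

variable (h3 : (3 : F) ≠ 0) (hn : C.nQ 1 = Fintype.card F) (h5 : 5 ≤ Fintype.card F)
  (hk : finrank ℂ V ≤ Fintype.card F ^ 3)
include h3 hn h5 hk

theorem not_c_one (hq : Fintype.card F % 3 = 1) : dm (C.e 6 0 * C.Cp) ≠ 1 := by
  classical
  intro hc1
  obtain ⟨hL, -, hD, hkk⟩ := C.bound_facts h3 hn h5 hk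
  obtain ⟨u, hu2, -, hu1⟩ := exists_unit_gen h5
  obtain ⟨w, hw, hw1⟩ := exists_cube_root hq
  set N := C.e 6 0 * C.Cp with hN
  have hNi : IsIdempotentElem N := C.L_idem h3 hn h5 0
  have hNtau : ∀ a b : Fˣ, C.cj (tau a b) N = N := fun a b => by
    rw [hN, C.cj_mul, C.tau_Cp, C.cj_tau _ _ (by decide), zero_div]
  have hg : ∀ a b : Fˣ, Commute (C.ρ (tau a b)) N := fun a b => C.comm_of_cj (hNtau a b)
  have hu' : (u : F) ≠ 1 := fun h => hu1 (Units.ext h)
  have hu2' : (u : F) ^ 2 ≠ 1 := fun h => hu2 (Units.ext (by rw [Units.val_pow_eq_pow_val, h, Units.val_one]))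
  have c8 : ∀ t, Commute N (C.X 8 t) := fun t =>
    ((C.Xe_comm (by simp) t 0).mul_right ((C.Xe_comm (by simp) t 0).mul_right (C.Xe_comm (by simp) t 0))).symm
  have c9 : ∀ t, Commute N (C.X 9 t) := fun t =>
    ((C.Xe_comm (by simp) t 0).mul_right ((C.Xe_comm (by simp) t 0).mul_right (C.Xe_comm (by simp) t 0))).symm
  have f8 := C.fixed_e (C.eigen_trivial hNi hc1 c8 (hg u 1) (Units.ne_zero u) hu' (fun t => by
    rw [tau_conj _ _ (by decide)]; simp [co7, co6]))
  have f9 := C.fixed_e (C.eigen_trivial hNi hc1 c9 (hg u 1) (pow_ne_zero 2 (Units.ne_zero u)) hu2' (fun t => by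
    rw [tau_conj _ _ (by decide)]; simp [co7, co6]))
  have f6 : ∀ t, C.X 6 t * N = N := C.fixed_e (by rw [hN, ← mul_assoc, (C.e_idem 6 0).eq])
  have f10 : ∀ t, C.X 10 t * N = N := fun t => by
    rw [hN, (C.e_comm_op (C.Cp_X6 h3 hn h5) 0).symm.eq, ← mul_assoc, C.X10_Cp]
  have f11 : ∀ t, C.X 11 t * N = N := fun t => by
    rw [hN, (C.e_comm_op (C.Cp_X6 h3 hn h5) 0).symm.eq, ← mul_assoc, C.X11_Cp]
  have cp7 : ∀ t, C.cj (x 7 t) C.Cp = C.Cp := fun t =>
    C.cj_eq_self ((C.Xe_comm (by simp) t 0).mul_right (C.Xe_comm (by simp) t 0))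
  -- `X₇` preserves the line
  have hA : ∀ t, C.cj (x 7 t) N * N = N := by
    intro t
    have e1 : C.cj (x 7 t) (C.e 6 0) * N = N := by
      rw [C.cj_e_one (δ := 0) (fun s => x 8 (-(t * s)) * (x 9 (t ^ 2 * s) * (x 10 (t ^ 3 * s) * x 11 (t ^ 3 * s ^ 2))))
        (fun s => c7_6 t s) (fun s => ?_), sub_zero]
      · rw [hN, ← mul_assoc, (C.e_idem 6 0).eq]
      · simp only [map_mul, mul_assoc]
        show C.X 8 _ * (C.X 9 _ * (C.X 10 _ * (C.X 11 _ * N))) = _
        rw [f11, f10, f9, f8, zero_mul, AddChar.map_zero_eq_one, one_smul]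
    conv_lhs => arg 1; rw [hN, C.cj_mul, cp7]
    rw [mul_assoc, show C.Cp * N = N by
      rw [hN, (C.e_comm_op (C.Cp_X6 h3 hn h5) 0).symm.eq, ← mul_assoc, C.Cp_idem.eq], e1]
  have hB : ∀ t, N * C.cj (x 7 t) N = N := by
    intro t
    have hy : ∀ s, N * C.ρ (x 8 (-(t * s)) * (x 9 (t ^ 2 * s) * (x 10 (t ^ 3 * s) * x 11 (t ^ 3 * s ^ 2)))) = N := by
      intro s
      have g8 : ∀ a, N * C.X 8 a = N := fun a => by rw [(c8 a).eq, f8]
      have g9 : ∀ a, N * C.X 9 a = N := fun a => by rw [(c9 a).eq, f9]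
      have g10 : ∀ a, N * C.X 10 a = N := fun a => by
        rw [hN, mul_assoc, (C.Cp_X10 a).eq, C.X10_Cp]
      have g11 : ∀ a, N * C.X 11 a = N := fun a => by
        rw [hN, mul_assoc, (C.Cp_X11 a).eq, C.X11_Cp]
      simp only [map_mul, ← mul_assoc]
      show N * C.X 8 _ * C.X 9 _ * C.X 10 _ * C.X 11 _ = N
      rw [g8, g9, g10, g11]
    have e1 : N * C.cj (x 7 t) (C.e 6 0) = N := by
      have hx : ∀ s, N * C.cj (x 7 t) (C.X 6 s) = N := fun s => by
        rw [cj, X, ← map_mul, ← map_mul, c7_6, map_mul, ← mul_assoc,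
          show N * C.ρ (x 6 s) = N by
            show N * C.X 6 s = N
            rw [show Commute N (C.X 6 s) from (C.e_X_self 6 0 s).mul_left (C.Cp_X6 h3 hn h5 s)]
            exact f6 s, hy]
      have : C.cj (x 7 t) (C.e 6 0) = (Fintype.card F : ℂ)⁻¹ • ∑ s, C.cj (x 7 t) (C.X 6 s) := by
        simp only [cj, e, pe, mul_smul_comm, smul_mul_assoc, Finset.mul_sum, Finset.sum_mul, zero_mul, neg_zero,
          AddChar.map_zero_eq_one, one_smul]
      rw [this, mul_smul_comm, Finset.mul_sum, Finset.sum_congr rfl fun s _ => hx s, Finset.sum_const,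
        Finset.card_univ, ← Nat.cast_smul_eq_nsmul ℂ, smul_smul, inv_mul_cancel₀ (by simp), one_smul]
    conv_lhs => arg 2; rw [hN, C.cj_mul, cp7]
    rw [← mul_assoc, e1, hN, mul_assoc, C.Cp_idem.eq]
  have c7 : ∀ t, Commute N (C.X 7 t) := by
    intro t
    refine (C.comm_of_cj (g := x 7 t) ?_).symm
    have h1 := congrArg (C.cj (x 7 t)) (hB (-t))
    rw [C.cj_mul, C.cj_cj, ← x_inv, mul_inv_cancel, C.cj_one, hA t] at h1
    exact h1.symm
  have f7 := C.fixed_e (C.eigen_trivial hNi hc1 c7 (hg u 1) (Units.ne_zero u) hu' (fun t => by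
    rw [tau_conj _ _ (by decide)]; simp [co7, co6]))
  have hn7N : C.cj (nw 7) N = N := by
    obtain ⟨e1, he1, h1⟩ := n7_conj (F := F) 6 10 (by simp)
    obtain ⟨e2, he2, h2⟩ := n7_conj (F := F) 10 6 (by simp)
    obtain ⟨e3, he3, h3'⟩ := n7_conj (F := F) 11 11 (by simp)
    have n1 : e1 ≠ 0 := by rcases he1 with rfl | rfl <;> simp
    have n2 : e2 ≠ 0 := by rcases he2 with rfl | rfl <;> simp
    have n3 : e3 ≠ 0 := by rcases he3 with rfl | rfl <;> simp
    rw [hN, Cp, C.cj_mul, C.cj_mul, C.cj_e_of_map n1 h1, C.cj_e_of_map n2 h2, C.cj_e_of_map n3 h3', zero_div,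
      zero_div, zero_div]
    have cm := C.ee_comm (r := 11) (r' := 6) (by simp) 0 0
    calc C.e 10 0 * (C.e 6 0 * C.e 11 0) = C.e 10 0 * C.e 11 0 * C.e 6 0 := by rw [cm.eq, mul_assoc]
      _ = C.e 6 0 * (C.e 10 0 * C.e 11 0) := ((C.e_comm_op (C.Cp_X6 h3 hn h5) 0).eq)
  have f4 : ∀ t, C.X 4 t * N = N := by
    intro t
    obtain ⟨e', he', h4⟩ := n7_conj (F := F) 7 4 (by simp)
    have := congrArg (C.cj (nw 7)) (f7 (e' * t))
    rw [C.cj_mul, hn7N] at this
    rwa [cj, X, ← map_mul, ← map_mul, h4,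
      show e' * (e' * t) = t by rcases he' with rfl | rfl <;> ring] at this
  -- equivariant operators fixing the line fix the whole fixed space
  have key : ∀ π : End ℂ V, C.HComm π → IsIdempotentElem π → π * N = N → π * C.Cp = C.Cp := by
    intro π hπ hπi hπN
    obtain ⟨c, hc⟩ := C.scalar_on_lines h3 hn h5 hk hπ
    have hCp : C.Cp = ∑ a, C.e 6 a * C.Cp := by rw [← Finset.sum_mul, C.e_sum, one_mul]
    have hc2 : c * c = c := by
      have h2 := congrArg (fun z => π * z) (hc 1 one_ne_zero)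
      simp only [← mul_assoc, hπi.eq, mul_smul_comm] at h2
      rw [mul_assoc, hc 1 one_ne_zero, smul_smul] at h2
      have hne : C.e 6 1 * C.Cp ≠ 0 := fun h => by
        have := hL 1 one_ne_zero
        rw [h, dm_zero] at this; omega
      exact (smul_left_injective ℂ hne h2).symm
    rcases eq_or_ne c 0 with rfl | hc0
    · exfalso
      have hπCp : π * C.Cp = N := by
        rw [hCp, Finset.mul_sum, Finset.sum_eq_single_of_mem (0 : F) (Finset.mem_univ _) fun a _ ha => by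
          rw [hc a ha, zero_smul], hπN]
      have c5 : ∀ t, Commute N (C.X 5 t) := fun t => by
        rw [← hπCp]
        exact (hπ.X (by simp) t).mul_left (C.Cp_X5 h3 t)
      have f5 := C.fixed_e (C.eigen_trivial hNi hc1 c5 (hg 1 u⁻¹) (Units.ne_zero u) hu' (fun t => by
        rw [tau_conj _ _ (by decide)]; simp [co7, co6]))
      have := C.no_fixed (P := N) (by
        intro r hr t
        simp only [List.mem_cons, List.not_mem_nil, or_false] at hr
        rcases hr with rfl | rfl | rfl | rfl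
        exacts [f7 t, f4 t, f6 t, f5 t])
      rw [this, dm_zero] at hc1
      omega
    · have hc1' : c = 1 := mul_left_cancel₀ hc0 (by rw [hc2, mul_one])
      calc π * C.Cp = ∑ a, π * (C.e 6 a * C.Cp) := by rw [← Finset.mul_sum, ← hCp]
        _ = ∑ a, C.e 6 a * C.Cp := by
            refine Finset.sum_congr rfl fun a _ => ?_
            by_cases ha : a = 0
            · subst ha; exact hπN
            · rw [hc a ha, hc1', one_smul]
        _ = C.Cp := hCp.symm
  -- the constituent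
  obtain ⟨v0, hv0, hN0⟩ : ∃ v0, v0 ≠ 0 ∧ N v0 = v0 := by
    obtain ⟨v, hv⟩ : ∃ v, N v ≠ 0 := by
      by_contra hall
      push Not at hall
      rw [LinearMap.ext (g := 0) hall, dm_zero] at hc1
      omega
    exact ⟨N v, hv, LinearMap.congr_fun hNi.eq v⟩
  have hline : ∀ v, ∃ d : ℂ, N v = d • v0 := by
    intro v
    obtain ⟨⟨b, hb⟩, -, hspan⟩ := finrank_eq_one_iff'.1 hc1
    obtain ⟨d0, hd0⟩ := hspan ⟨v0, ⟨v0, hN0⟩⟩
    obtain ⟨d, hd⟩ := hspan ⟨N v, LinearMap.mem_range_self _ _⟩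
    have h0 : d0 • b = v0 := congrArg Subtype.val hd0
    have h1 : d • b = N v := congrArg Subtype.val hd
    have : d0 ≠ 0 := fun h => hv0 (by rw [← h0, h, zero_smul])
    exact ⟨d / d0, by rw [← h0, ← h1, smul_smul, div_mul_cancel₀ _ this]⟩
  let S : Submodule ℂ V := Submodule.span ℂ (Set.range fun A => C.S3 A v0)
  have hS : ∀ A, ∀ v ∈ S, C.S3 A v ∈ S := by
    intro A v hv
    refine Submodule.span_induction ?_ ?_ ?_ ?_ hv
    · rintro _ ⟨B, rfl⟩
      exact Submodule.subset_span ⟨A * B, by simp only [map_mul]; rfl⟩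
    · simp
    · intro a b _ _ ha hb; rw [map_add]; exact S.add_mem ha hb
    · intro c a _ ha; rw [map_smul]; exact S.smul_mem c ha
  have hv0S : v0 ∈ S := Submodule.subset_span ⟨1, by simp⟩
  haveI : Fintype (Matrix.SpecialLinearGroup (Fin 3) F) := Fintype.ofFinite _
  obtain ⟨π, hπi, hπc, hπS, hπid⟩ := exists_equivariant C.S3 S hS
  have hπH : C.HComm π := by
    rintro g ⟨A, rfl⟩
    exact hπc A
  have hπN : π * N = N := LinearMap.ext fun v => by
    obtain ⟨d, hd⟩ := hline v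
    rw [Module.End.mul_apply, hd, map_smul, hπid v0 hv0S]
  have hπCp := key π hπH hπi hπN
  -- the other parabolic
  have hHn : ∀ {Q : End ℂ V}, C.HComm Q → C.HComm (C.cj (nw 7) Q) := by
    intro Q hQ g hgr
    have h1 := (hQ _ (n7_normal hgr)).eq
    have h2 := congrArg (C.cj (nw 7)) h1
    rw [C.cj_mul, C.cj_mul] at h2
    have e : C.cj (nw 7) (C.ρ ((nw 7)⁻¹ * g * nw 7)) = C.ρ g := by
      rw [cj, ← map_mul, ← map_mul]
      congr 1
      group
    rwa [e] at h2
  have hπE : π * (C.e 6 0 * C.e 11 0) = C.e 6 0 * C.e 11 0 := by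
    have hH' : C.HComm (C.cj (nw 7)⁻¹ π) := by
      intro g hgr
      have hh := hHn (Q := C.cj (nw 7)⁻¹ π)
      have h1 : C.cj (nw 7) (C.cj (nw 7)⁻¹ π) = π := by rw [C.cj_cj, mul_inv_cancel, C.cj_one]
      -- conjugation by the inverse
      have hg' : nw 7 * g * (nw 7)⁻¹ ∈ (sl3 (F := F)).range := by
        have h4 := n7_normal (n7_normal (n7_normal hgr))
        have e4 : ∀ g ∈ (sl3 (F := F)).range, nw 7 * g * (nw 7)⁻¹ ∈ (sl3 (F := F)).range := by
          intro g hg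
          refine range_induction (P := fun g => nw 7 * g * (nw 7)⁻¹ ∈ (sl3 (F := F)).range)
            (fun {i j} hij t => ?_) (by simp [one_mem]) (fun a b ha hb => by
              have e : nw 7 * (a * b) * (nw 7)⁻¹ = nw 7 * a * (nw 7)⁻¹ * (nw 7 * b * (nw 7)⁻¹) := by group
              rw [e]; exact mul_mem ha hb)
            (fun a ha => by
              have e : nw 7 * a⁻¹ * (nw 7)⁻¹ = (nw 7 * a * (nw 7)⁻¹)⁻¹ := by group
              rw [e]; exact inv_mem ha) hg
          have hl := rOf_long hij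
          rw [sl3_tv]
          generalize KnownB.G2SL3.rOf i j = r at hl ⊢
          have step : ∀ s', s' ∈ [0, 1, 5, 6, 10, 11] →
              (∃ e : F, (e = 1 ∨ e = -1) ∧ ∀ t, nw 7 * x r t * (nw 7)⁻¹ = x s' (e * t)) →
              ∀ t, nw 7 * x r t * (nw 7)⁻¹ ∈ (sl3 (F := F)).range := by
            rintro s' hs' ⟨e, -, h⟩ t
            rw [h]; exact long_mem_range hs' _
          simp only [List.mem_cons, List.not_mem_nil, or_false] at hl
          rcases hl with rfl | rfl | rfl | rfl | rfl | rfl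
          · exact step 0 (by simp) (n7_conj 0 0 (by simp)) _
          · exact step 5 (by simp) n7_conj15 _
          · exact step 1 (by simp) (n7_conj 5 1 (by simp)) _
          · exact step 10 (by simp) (n7_conj 6 10 (by simp)) _
          · exact step 6 (by simp) (n7_conj 10 6 (by simp)) _
          · exact step 11 (by simp) (n7_conj 11 11 (by simp)) _
        exact e4 g hgr
      have h2 := congrArg (C.cj (nw 7)⁻¹) (hπH _ hg').eq
      rw [C.cj_mul, C.cj_mul] at h2
      have e : C.cj (nw 7)⁻¹ (C.ρ (nw 7 * g * (nw 7)⁻¹)) = C.ρ g := by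
        rw [cj, ← map_mul, ← map_mul]
        congr 1
        group
      rwa [e] at h2
    have hN' : C.cj (nw 7)⁻¹ π * N = N := by
      have h2 := congrArg (C.cj (nw 7)⁻¹) hπN
      have e : C.cj (nw 7)⁻¹ N = N := by
        conv_lhs => rw [← hn7N, C.cj_inv_cj]
      rwa [C.cj_mul, e] at h2
    have h3'' := congrArg (C.cj (nw 7)) (key _ hH' (C.cj_idem hπi) hN')
    rw [C.cj_mul, C.cj_cj, mul_inv_cancel, C.cj_one] at h3''
    obtain ⟨e2, he2, h2⟩ := n7_conj (F := F) 10 6 (by simp)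
    obtain ⟨e3, he3, h3'⟩ := n7_conj (F := F) 11 11 (by simp)
    have n2 : e2 ≠ 0 := by rcases he2 with rfl | rfl <;> simp
    have n3 : e3 ≠ 0 := by rcases he3 with rfl | rfl <;> simp
    rwa [Cp, C.cj_mul, C.cj_e_of_map n2 h2, C.cj_e_of_map n3 h3', zero_div, zero_div] at h3''
  -- the eigenvalue on the constituent
  have hzN : Commute (C.ρ (zc w)) N := hg w 1
  obtain ⟨η, hη⟩ := scalar_of_rank_one hNi hc1 hzN
  have hzv : C.ρ (zc w) v0 = η • v0 := by
    have := LinearMap.congr_fun hη v0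
    rwa [Module.End.mul_apply, LinearMap.smul_apply, hN0] at this
  have hzS : ∀ v ∈ S, C.ρ (zc w) v = η • v := by
    intro v hv
    refine Submodule.span_induction ?_ ?_ ?_ ?_ hv
    · rintro _ ⟨B, rfl⟩
      have hcm := (C.hcomm_zc hw _ ⟨B, rfl⟩).eq
      have := LinearMap.congr_fun hcm v0
      rw [Module.End.mul_apply, Module.End.mul_apply, hzv, map_smul] at this
      exact this
    · simp
    · intro a b _ _ ha hb; rw [map_add, ha, hb, smul_add]
    · intro c a _ ha; rw [map_smul, ha, smul_comm]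
  have hη3 : η ^ 3 = 1 := by
    have h := LinearMap.congr_fun (C.zc_cube hw) v0
    simp only [Module.End.mul_apply, hzv, map_smul, smul_smul, Module.End.one_apply] at h
    have h' : (η ^ 3) • v0 = (1 : ℂ) • v0 := by rw [one_smul, show η ^ 3 = η * (η * η) by ring]; exact h
    exact smul_left_injective ℂ hv0 h'
  have hPiπ : C.Pi w η * π = π := by
    rw [C.Pi_mul (η := η) (LinearMap.ext fun v => by
      rw [Module.End.mul_apply, LinearMap.smul_apply, hzS _ (hπS v)]),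
      div_self (fun h => by rw [h] at hη3; norm_num at hη3)]
    norm_num
  -- multiplicities
  have hJ : ∀ b, C.HComm π → IsIdempotentElem (π * C.Qb 1 b) := fun b hh =>
    hπi.mul_of_commute ((hh.e (by simp) b).mul_right ((hh.e (by simp) _).mul_right (hh.e (by simp) _)))
      (C.Qb_idem 1 b)
  have h27 : (27 : F) ≠ 0 := by
    rw [show (27 : F) = 3 ^ 3 by norm_num]; exact pow_ne_zero _ h3
  set b0 : F := (27 : F)⁻¹ with hb0
  have hb00 : b0 ≠ 0 := inv_ne_zero h27
  set J := dm (π * C.Qb 1 b0) with hJdef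
  have hd3 : dm (C.Qb 1 b0) = 3 := by
    rw [C.dm_Qb h3 hn h5 one_ne_zero]
    refine (congrArg Finset.card (Finset.filter_congr fun s _ => ?_)).trans (cube_set_card hw hw1)
    simp [hb0, mul_inv_cancel₀ h27]
  have hJ1 : J ≤ 1 := by
    have hcQ : Commute π (C.Qb 1 b0) :=
      (hπH.e (by simp) b0).mul_right ((hπH.e (by simp) _).mul_right (hπH.e (by simp) _))
    have hle : J ≤ dm (C.Pi w η * C.Qb 1 b0) := dm_le_of_mul (by
      rw [mul_assoc, ← mul_assoc (C.Qb 1 b0), ← hcQ.eq, mul_assoc π, (C.Qb_idem 1 b0).eq, ← mul_assoc, hPiπ])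
    have := C.dm_Pi_Qb h3 hn h5 hw hw1 hη3 one_ne_zero hb00
    omega
  have h3J : ∀ b : F, b ≠ 0 → 3 * dm (π * C.Qb 1 b) = J * dm (C.Qb 1 b) := by
    intro b hb
    by_cases hz : C.Qb 1 b = 0
    · rw [hz, mul_zero, dm_zero, mul_zero, mul_zero]
    obtain ⟨s, hs⟩ : ∃ s : F, s ^ 3 = 27 * (1 : F) ^ 2 * b := by
      by_contra hall
      push Not at hall
      refine hz (eq_zero_of_dm ?_)
      rw [C.dm_Qb h3 hn h5 one_ne_zero, Finset.card_eq_zero, Finset.filter_eq_empty_iff]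
      exact fun s _ => hall s
    have hs0 : s ≠ 0 := by
      rintro rfl
      simp [h27, hb] at hs
    have hcj : C.cj (tau (Units.mk0 s hs0) ((Units.mk0 s hs0) ^ 3)⁻¹) (C.Qb 1 b0) = C.Qb 1 b := by
      rw [Qb, B, C.cj_mul, C.cj_mul, C.cj_tau _ _ (by decide), C.cj_tau _ _ (by decide),
        C.cj_tau _ _ (by decide), zero_div, Qb, B]
      congr 2 <;> congr 1
      · simp [co7, co6, hb0]
        field_simp
        linear_combination hs
      · simp [co7, co6, hs0]
    rw [← hcj]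
    have hI := C.Qb_idem (1 : F) b0
    conv_lhs => rw [← hπH.cj (tau_mem_range (Units.mk0 s hs0) ((Units.mk0 s hs0) ^ 3)⁻¹), ← C.cj_mul,
      C.dm_cj (hJ b0 hπH)]
    rw [C.dm_cj hI, hd3, mul_comm]
  have hn_eq : 3 * C.nQ π = 3 + J * (Fintype.card F - 1) := by
    have hsum := C.dm_split_B C.hcomm_one IsIdempotentElem.one (v := (1 : F)) one_ne_zero
    simp only [one_mul, hn] at hsum
    rw [← Finset.add_sum_erase _ _ (Finset.mem_univ (0 : F)), C.dm_Qb_zero h3 hn h5 one_ne_zero] at hsum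
    rw [C.dm_split_B hπH hπi (v := (1 : F)) one_ne_zero, Finset.mul_sum,
      ← Finset.add_sum_erase _ _ (Finset.mem_univ (0 : F)),
      Finset.sum_congr rfl fun b hb => h3J b (Finset.ne_of_mem_erase hb), ← Finset.mul_sum]
    have h0 : π * C.Qb 1 0 = C.Qb 1 0 := by
      have e : C.Qb 1 0 = C.e 6 0 * C.e 11 0 * C.e 10 1 := by
        rw [Qb, B, (C.ee_comm (r := 11) (r' := 10) (by simp) 1 0).eq, mul_assoc]
      rw [e, ← mul_assoc, hπE]
    rw [h0, C.dm_Qb_zero h3 hn h5 one_ne_zero]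
    congr 2
    omega
  have hdS : finrank ℂ S = dm π := by
    rw [dm, show LinearMap.range π = S from le_antisymm (by rintro _ ⟨v, rfl⟩; exact hπS v)
      (fun v hv => ⟨v, hπid v hv⟩)]
  have hdim := C.dm_total hπH hπi
  rw [hπCp, hD, hc1] at hdim
  -- irreducibility
  let S' : Subrepresentation (C.S3 : Representation ℂ _ V) := ⟨S, hS⟩
  haveI hirr : S'.toRepresentation.IsIrreducible := by
    haveI : Nontrivial (Subrepresentation S'.toRepresentation) := ⟨⊥, ⊤, fun h => by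
      have h' : (⊥ : Submodule ℂ S) = ⊤ := congrArg Subrepresentation.toSubmodule h
      exact hv0 (congrArg Subtype.val ((Submodule.mem_bot ℂ).1 (h' ▸ Submodule.mem_top : (⟨v0, hv0S⟩ : S) ∈ _)))⟩
    refine ⟨fun A => ?_⟩
    let A' : Submodule ℂ V := A.toSubmodule.map S.subtype
    have hA' : ∀ g, ∀ v ∈ A', C.S3 g v ∈ A' := by
      rintro g _ ⟨a, ha, rfl⟩
      exact ⟨_, A.apply_mem_toSubmodule g ha, rfl⟩
    obtain ⟨p, hpi, hpc, hpA, hpid⟩ := exists_equivariant C.S3 A' hA'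
    have hpH : C.HComm p := by rintro g ⟨B, rfl⟩; exact hpc B
    have hpv : ∃ d : ℂ, p v0 = d • v0 := by
      obtain ⟨d, hd⟩ := hline (p v0)
      refine ⟨d, ?_⟩
      have hcN : Commute p N := C.L_comm_H h3 hn h5 hk hpH 0
      have := LinearMap.congr_fun hcN.eq v0
      calc p v0 = p (N v0) := by rw [hN0]
        _ = N (p v0) := this
        _ = _ := hd
    obtain ⟨d, hd⟩ := hpv
    have hps : ∀ v ∈ S, p v = d • v := by
      intro v hv
      refine Submodule.span_induction ?_ ?_ ?_ ?_ hv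
      · rintro _ ⟨B, rfl⟩
        have := LinearMap.congr_fun (hpc B).eq v0
        rw [Module.End.mul_apply, Module.End.mul_apply, hd, map_smul] at this
        exact this
      · simp
      · intro a b _ _ ha hb; rw [map_add, ha, hb, smul_add]
      · intro c a _ ha; rw [map_smul, ha, smul_comm]
    by_cases hd0 : d = 0
    · left
      refine Subrepresentation.toSubmodule_injective (le_antisymm (fun a ha => ?_) bot_le)
      have h1 : p (a : V) = (a : V) := hpid _ ⟨a, ha, rfl⟩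
      rw [hps _ a.2, hd0, zero_smul] at h1
      exact (Submodule.mem_bot ℂ).2 (Subtype.ext h1.symm)
    · right
      refine Subrepresentation.toSubmodule_injective (le_antisymm le_top (fun a _ => ?_))
      obtain ⟨a', ha', hpe⟩ := hpA (a : V)
      rw [hps _ a.2] at hpe
      have h1 : a = d⁻¹ • a' := Subtype.ext (by
        rw [Submodule.coe_smul, show (a' : V) = d • (a : V) from hpe, smul_smul, inv_mul_cancel₀ hd0, one_smul])
      rw [h1]
      exact A.toSubmodule.smul_mem _ ha'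
  have hdvd := CfsgLib.Char.degree_dvd_card S'.toRepresentation
  rw [show finrank ℂ S'.toSubmodule = finrank ℂ S from rfl, hdS, hdim] at hdvd
  have hcard : Nat.card (Matrix.SpecialLinearGroup (Fin 3) F) =
      Fintype.card F ^ 3 * ((Fintype.card F ^ 3 - 1) * (Fintype.card F ^ 2 - 1)) := by
    have h := CfsgLib.Classical.card_sl_mul (F := F) (n := 3) (by norm_num)
    rw [Fin.prod_univ_three] at h
    refine Nat.eq_of_mul_eq_mul_left (show 0 < Fintype.card F - 1 by omega) (h.trans ?_)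
    simp only [Fin.val_zero, Fin.val_one, Fin.val_two, pow_zero, pow_one]
    have a1 : Fintype.card F ^ 3 - Fintype.card F = Fintype.card F * (Fintype.card F ^ 2 - 1) := by
      rw [Nat.mul_sub, mul_one, pow_succ' _ 2]
    have a2 : Fintype.card F ^ 3 - Fintype.card F ^ 2 = Fintype.card F ^ 2 * (Fintype.card F - 1) := by
      rw [Nat.mul_sub, mul_one, ← pow_succ]
    rw [a1, a2]
    ring
  rw [hcard] at hdvd
  obtain ⟨q, hq'⟩ : ∃ q, q = Fintype.card F := ⟨_, rfl⟩
  rw [← hq'] at hdvd hn_eq hq h5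
  have hq7 : 7 ≤ q := by omega
  rw [show q - 1 + 1 = q by omega] at hdvd
  rcases Nat.le_one_iff_eq_zero_or_eq_one.1 hJ1 with hJ0 | hJ0
  · rw [hJ0, zero_mul, add_zero] at hn_eq
    rw [show C.nQ π = 1 by omega] at hdvd
    exact no_div_one hq7 hdvd
  · rw [hJ0, one_mul] at hn_eq
    exact no_div_two hq7 (by omega) hdvd

omit hn hk in
include C in
theorem bound_one (hq : Fintype.card F % 3 = 1) (h7 : 4 < Fintype.card F) :
    Fintype.card F ^ 3 + 1 ≤ finrank ℂ V := by
  by_contra hlt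
  have hk : finrank ℂ V ≤ Fintype.card F ^ 3 := by omega
  have hn := (C.lower_bound h3 h5).2 hk
  have h0 := C.not_c_zero h3 hn h5 hk hq
  have h1 := C.not_c_one h3 hn h5 hk hq
  have := (C.bound_facts h3 hn h5 hk).2.1
  omega

end Ctx

end CfsgLib.Chev.G2Min
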