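import Mathlib
import Cfsg.Agent.Lib.Chev.G2Min.OneB
import Cfsg.Agent.Lib.Char.Integral

/-!
Characteristic three: the bound `q⁴ + q² + 1`.
-/

set_option autoImplicit false
set_option linter.unusedSectionVars false
set_option maxRecDepth 100000
set_option maxHeartbeats 1000000

namespace CfsgLib.Chev.G2Min

open Cfsg.Lie Module

variable {F : Type*} [Field F] [Fintype F] {V : Type*} [AddCommGroup V] [Module ℂ V]
  [FiniteDimensional ℂ V]

theorem cube_bij (h3 : (3 : F) = 0) : Function.Bijective fun t : F => t ^ 3 := by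
  have := Fact.mk Nat.prime_three
  have hP : CharP F 3 := (CharP.charP_iff_prime_eq_zero Nat.prime_three).2 (by exact_mod_cast h3)
  exact Finite.injective_iff_bijective.1 (frobenius_inj F 3)

theorem exists_ne_three : 4 ≤ Fintype.card F → ∃ u : F, u ≠ 0 ∧ u ≠ 1 ∧ u ≠ -1 := fun h => by
  classical
  obtain ⟨u, hu⟩ := Finset.exists_mem_notMem_of_card_lt_card
    (s := ({0, 1, -1} : Finset F)) (t := Finset.univ) (by
      rw [Finset.card_univ]
      exact lt_of_le_of_lt Finset.card_le_three (by omega))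
  simp only [Finset.mem_insert, Finset.mem_singleton, not_or] at hu
  exact ⟨u, hu.2.1, hu.2.2.1, hu.2.2.2⟩

theorem square_count : (Fintype.card F - 1) ≤ 2 * (Nat.card ((fun c : Fˣ => c ^ 2) '' Set.univ)) := by
  classical
  rw [Set.image_univ, ← Fintype.card_units]
  have h : Fintype.card Fˣ ≤ 2 * (Finset.univ.image fun c : Fˣ => c ^ 2).card := by
    rw [← Finset.card_univ]
    refine Finset.card_le_mul_card_image _ 2 fun b hb => ?_
    obtain ⟨c, -, rfl⟩ := Finset.mem_image.1 hb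
    refine le_trans (Finset.card_le_card (t := {c, -c}) fun d hd => ?_) Finset.card_le_two
    rw [Finset.mem_filter] at hd
    rcases sq_eq_sq_iff_eq_or_eq_neg.1 (congrArg (fun z : Fˣ => (z : F)) hd.2 |> fun e => by
      simpa only [Units.val_pow_eq_pow_val] using e) with h | h
    · simp [Units.ext h]
    · simp [show d = -c from Units.ext (by simpa using h)]
  convert h using 2
  rw [Nat.card_eq_fintype_card, ← Set.toFinset_card, Set.toFinset_range]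

/-- No prime-power arithmetic: the three excluded degrees. -/
theorem not_dvd_three {q k : ℕ} (h9 : 9 ≤ q) (hq : q % 3 = 0) (hpow : ∀ d, d ∣ q → d ≠ 1 → 3 ∣ d)
    (hk : k ∣ q ^ 6 * (q ^ 2 - 1) * (q ^ 6 - 1)) (h1 : q ^ 4 + q ^ 2 - 2 ≤ k) :
    q ^ 4 + q ^ 2 + 1 ≤ k := by
  by_contra hlt
  obtain ⟨X, hX⟩ : ∃ X, q ^ 2 = X + 1 := ⟨q ^ 2 - 1, (Nat.succ_pred_eq_of_pos (pow_pos (by omega) 2)).symm⟩
  have hX80 : 80 ≤ X := by
    have : 9 ^ 2 ≤ q ^ 2 := Nat.pow_le_pow_left h9 2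
    omega
  have hX3 : (X + 1) % 3 = 0 := by rw [← hX, Nat.pow_mod, hq]
  have e4 : q ^ 4 = (X + 1) * (X + 1) := by rw [← hX]; ring
  have e6 : q ^ 6 - 1 = X * ((X + 1) * (X + 1) + (X + 1) + 1) := by
    have : X * ((X + 1) * (X + 1) + (X + 1) + 1) + 1 = q ^ 6 := by
      rw [show q ^ 6 = (q ^ 2) ^ 3 by ring, hX]; ring
    omega
  rw [e6, hX, Nat.add_sub_cancel] at hk
  rw [e4, hX] at h1 hlt
  have hne : (X + 1) * (X + 1) + (X + 1) - 2 ≤ k ∧ k ≤ (X + 1) * (X + 1) + (X + 1) := ⟨h1, by omega⟩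
  have hXX : (X + 1) * (X + 1) = X * X + 2 * X + 1 := by ring
  have cop : ∀ {d : ℕ}, d % 3 ≠ 0 → Nat.Coprime d (q ^ 6) := fun {d} hd => by
    refine Nat.Coprime.pow_right 6 ?_
    by_contra hg
    have h1 := hpow _ (Nat.gcd_dvd_right d q) hg
    exact hd (Nat.mod_eq_zero_of_dvd (dvd_trans h1 (Nat.gcd_dvd_left d q)))
  rcases (show k = X * (X + 3) ∨ k = X * X + 3 * X + 1 ∨ k = (X + 1) * (X + 2) by
    have : X * (X + 3) = X * X + 3 * X := by ring
    have : (X + 1) * (X + 2) = X * X + 3 * X + 2 := by ring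
    omega) with rfl | rfl | rfl
  · have h : X + 3 ∣ q ^ 6 * (X * ((X + 1) * (X + 1) + (X + 1) + 1)) := by
      refine Nat.dvd_of_mul_dvd_mul_left (show 0 < X by omega) ?_
      convert hk using 1
      ring
    have h2 := (cop (d := X + 3) (by omega)).dvd_of_dvd_mul_left h
    have h3 : ((X + 3 : ℕ) : ℤ) ∣ 9 := by
      have a := Int.natCast_dvd_natCast.2 h2
      push_cast at a ⊢
      have := dvd_sub ((dvd_refl ((X : ℤ) + 3)).mul_left ((X : ℤ) ^ 2 + 3)) a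
      rwa [show ((X : ℤ) ^ 2 + 3) * ((X : ℤ) + 3) - X * ((X + 1) * (X + 1) + (X + 1) + 1) = 9 by ring] at this
    have := Int.le_of_dvd (by norm_num) h3
    omega
  · rw [mul_assoc] at hk
    have hm : (X * X + 3 * X + 1) % 3 ≠ 0 := by
      rw [Nat.add_mod, Nat.add_mod (X * X), Nat.mul_mod]
      have : X % 3 = 2 := by omega
      rw [this]
      simp
    have h2 := (cop hm).dvd_of_dvd_mul_left hk
    have hz : ((X : ℤ) ^ 2 + 3 * X + 1) ∣ 6 * ((X : ℤ) + 1) - 4 := by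
      have a := Int.natCast_dvd_natCast.2 h2
      push_cast at a
      rw [show ((X : ℤ) * X + 3 * X + 1) = (X : ℤ) ^ 2 + 3 * X + 1 by ring] at a
      have := dvd_sub ((dvd_refl ((X : ℤ) ^ 2 + 3 * X + 1)).mul_left ((X : ℤ) ^ 2 + 2)) a
      rwa [show ((X : ℤ) ^ 2 + 2) * ((X : ℤ) ^ 2 + 3 * X + 1) -
        X * (X * ((X + 1) * (X + 1) + (X + 1) + 1)) = 6 * ((X : ℤ) + 1) - 4 by ring] at this
    have hx : (80 : ℤ) ≤ X := by exact_mod_cast hX80
    have := Int.le_of_dvd (by linarith) hz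
    nlinarith
  · rw [mul_assoc] at hk
    have h2 := (cop (d := X + 2) (by omega)).dvd_of_dvd_mul_left ((dvd_mul_left _ _).trans hk)
    have h3 : ((X + 2 : ℕ) : ℤ) ∣ 4 := by
      have a := Int.natCast_dvd_natCast.2 h2
      push_cast at a ⊢
      have := dvd_sub a ((dvd_refl ((X : ℤ) + 2)).mul_left ((X : ℤ) ^ 3 + (X : ℤ) ^ 2 + X - 2))
      rwa [show (X : ℤ) * (X * ((X + 1) * (X + 1) + (X + 1) + 1)) -
        ((X : ℤ) ^ 3 + (X : ℤ) ^ 2 + X - 2) * ((X : ℤ) + 2) = 4 by ring] at this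
    have := Int.le_of_dvd (by norm_num) h3
    omega

namespace Ctx

variable (C : Ctx F V)

theorem e_kill {r : ℕ} {a b : F} {P : End ℂ V} (hab : b ≠ a) (h : C.e r a * P = P) : C.e r b * P = 0 := by
  rw [← h, ← mul_assoc, C.e_orth r hab, zero_mul]

variable (h3 : (3 : F) = 0) (h9 : 9 ≤ Fintype.card F)
include h3

theorem X89 (t s : F) : Commute (C.X 8 t) (C.X 9 s) := by
  refine Commute.map ?_ C.ρ
  have h := c8_9 t s
  rw [h3, zero_mul, zero_mul, x_zero, mul_one, mul_inv_eq_iff_eq_mul] at h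
  exact h

theorem X79 (t s : F) : Commute (C.X 7 t) (C.X 9 s) := by
  refine Commute.map ?_ C.ρ
  have h := c7_9 t s
  rw [h3, zero_mul, zero_mul, x_zero, mul_one, mul_inv_eq_iff_eq_mul] at h
  exact h

theorem X48 (t s : F) : Commute (C.X 4 t) (C.X 8 s) := by
  refine Commute.map ?_ C.ρ
  have h := c4_8 t s
  rw [h3, zero_mul, zero_mul, neg_zero, x_zero, mul_one, mul_inv_eq_iff_eq_mul] at h
  exact h

theorem e89 (b s : F) : Commute (C.e 8 b) (C.e 9 s) :=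
  (C.e_comm_op (A := C.e 9 s) (fun t => (C.e_comm_op (fun s' => C.X89 h3 t s') s).symm) b).symm

theorem two_eq : (2 : F) = -1 := by linear_combination h3

theorem c78' (u t : F) : x 7 u * x 8 t * (x 7 u)⁻¹ = x 8 t * x 9 (u * t) := by
  rw [c7_8, show -(2 * u * t) = u * t by linear_combination (-(u * t)) * h3, h3]
  simp [x_zero]

theorem cj_x7_e8 {P : End ℂ V} {s : F} (h : C.e 9 s * P = P) (u b : F) :
    C.cj (x 7 u) (C.e 8 b) * P = C.e 8 (b - s * u) * P := by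
  refine C.cj_e_one (δ := s * u) (fun t => x 9 (u * t)) (fun t => c78' h3 u t) (fun t => ?_) b
  show C.X 9 _ * P = _
  rw [C.eigen_e h]
  congr 2
  ring

theorem cj_x7_e9 (u s : F) : C.cj (x 7 u) (C.e 9 s) = C.e 9 s :=
  C.cj_eq_self (C.e_comm_op (fun t => C.X79 h3 u t) s)

/-- A general split into equal parts. -/
theorem dm_equal {r : ℕ} {P : End ℂ V} (hP : IsIdempotentElem P) (hc : ∀ t, Commute P (C.X r t))
    (a0 : F) (h : ∀ a, dm (C.e r a * P) = dm (C.e r a0 * P)) :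
    dm P = Fintype.card F * dm (C.e r a0 * P) := by
  rw [C.split hP hc, Finset.sum_congr rfl fun a _ => h a, Finset.sum_const, smul_eq_mul, Finset.card_univ]

theorem e9X10 (s t : F) : Commute (C.e 9 s) (C.X 10 t) := (C.Xe_comm (by simp) t s).symm

theorem P9_idem (s w : F) : IsIdempotentElem (C.e 9 s * C.e 11 w) :=
  (C.e_idem 9 s).mul_of_commute (C.ee_comm (by simp) s w) (C.e_idem 11 w)

theorem P9_X8 (s w t : F) : Commute (C.e 9 s * C.e 11 w) (C.X 8 t) :=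
  (C.e_comm_op (fun s' => C.X89 h3 t s') s).symm.mul_left (C.Xe_comm (by simp) t w).symm

theorem T_idem (b s w : F) : IsIdempotentElem (C.e 8 b * (C.e 9 s * C.e 11 w)) :=
  C.e_mul_idem (C.P9_idem h3 s w) (C.P9_X8 h3 s w) b

theorem T_X6 (b s w t : F) : Commute (C.e 8 b * (C.e 9 s * C.e 11 w)) (C.X 6 t) :=
  ((C.Xe_comm (by simp) t b).mul_right ((C.Xe_comm (by simp) t s).mul_right (C.Xe_comm (by simp) t w))).symm

theorem T_q_dvd (b s : F) {w : F} (hw : w ≠ 0) :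
    dm (C.e 8 b * (C.e 9 s * C.e 11 w)) =
      Fintype.card F * dm (C.e 6 0 * (C.e 8 b * (C.e 9 s * C.e 11 w))) := by
  refine C.dm_equal h3 (C.T_idem h3 b s w) (C.T_X6 h3 b s w) 0 fun a => ?_
  set T := C.e 8 b * (C.e 9 s * C.e 11 w) with hT
  have hfix : C.cj (x 10 (-a / w)) T = T :=
    C.cj_eq_self ((C.Xe_comm (by simp) _ b).mul_right ((C.Xe_comm (by simp) _ s).mul_right (C.Xe_comm (by simp) _ w)))
  have h11 : C.e 11 w * T = T := by
    rw [hT, ← mul_assoc, (C.ee_comm (r := 8) (r' := 11) (by simp) w b).eq, mul_assoc, ← mul_assoc (C.e 11 w),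
      (C.ee_comm (r := 9) (r' := 11) (by simp) w s).eq, mul_assoc, (C.e_idem 11 w).eq]
  have h1 : C.cj (x 10 (-a / w)) (C.e 6 a * T) = C.e 6 0 * T := by
    rw [C.cj_mul, hfix, C.cj_e_one (δ := a) (fun t => x 11 (-(-a / w * t))) (fun t => c10_6 _ _) (fun t => ?_),
      sub_self]
    show C.X 11 _ * T = _
    rw [C.eigen_e h11]
    congr 2
    field_simp
  rw [← h1, C.dm_cj (C.e_mul_idem (C.T_idem h3 b s w) (C.T_X6 h3 b s w) a)]

theorem torus_89 {s w : F} (hs : s ≠ 0) (hw : w ≠ 0) :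
    dm (C.e 9 s * C.e 11 w) = dm (C.e 9 1 * C.e 11 1) := by
  obtain ⟨a, ha⟩ : ∃ a : Fˣ, (a : F) = s ^ 2 / w := ⟨Units.mk0 _ (div_ne_zero (pow_ne_zero 2 hs) hw), rfl⟩
  obtain ⟨b, hb⟩ : ∃ b : Fˣ, (b : F) = s / (a : F) ^ 2 := ⟨Units.mk0 _ (div_ne_zero hs (pow_ne_zero 2 a.ne_zero)), rfl⟩
  have h : C.cj (tau a b) (C.e 9 s * C.e 11 w) = C.e 9 1 * C.e 11 1 := by
    rw [C.cj_mul, C.cj_tau _ _ (by decide), C.cj_tau _ _ (by decide)]
    congr 2
    · simp [co7, co6, hb]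
      field_simp
    · simp [co7, co6, hb, ha]
      field_simp
  rw [← h, C.dm_cj (C.P9_idem h3 s w)]

theorem shift8 {s : F} (hs : s ≠ 0) (w : F) :
    dm (C.e 9 s * C.e 11 w) = Fintype.card F * dm (C.e 8 0 * (C.e 9 s * C.e 11 w)) := by
  refine C.dm_equal h3 (C.P9_idem h3 s w) (C.P9_X8 h3 s w) 0 fun b => ?_
  have h1 : C.cj (x 7 (b / s)) (C.e 8 b * (C.e 9 s * C.e 11 w)) = C.e 8 0 * (C.e 9 s * C.e 11 w) := by
    rw [C.cj_mul, C.cj_mul (x 7 (b / s)) (C.e 9 s), C.cj_x7_e9 h3,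
      C.cj_eq_self (A := C.e 11 w) (C.Xe_comm (by simp) _ w),
      C.cj_x7_e8 h3 (s := s) (by rw [← mul_assoc, (C.e_idem 9 s).eq]), mul_div_cancel₀ b hs, sub_self]
  rw [← h1, C.dm_cj (C.T_idem h3 b s w)]

theorem n7_T {b w : F} (hb : b ≠ 0) (hw : w ≠ 0) :
    ∃ s' w' : F, s' ≠ 0 ∧ w' ≠ 0 ∧
      dm (C.e 8 b * (C.e 9 0 * C.e 11 w)) = dm (C.e 8 0 * (C.e 9 s' * C.e 11 w')) := by
  obtain ⟨e1, he1, h8⟩ := n7_conj (F := F) 8 9 (by simp)
  obtain ⟨e2, he2, h9'⟩ := n7_conj (F := F) 9 8 (by simp)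
  obtain ⟨e3, he3, h11⟩ := n7_conj (F := F) 11 11 (by simp)
  have n1 : e1 ≠ 0 := by rcases he1 with rfl | rfl <;> simp
  have n2 : e2 ≠ 0 := by rcases he2 with rfl | rfl <;> simp
  have n3 : e3 ≠ 0 := by rcases he3 with rfl | rfl <;> simp
  refine ⟨b / e1, w / e3, div_ne_zero hb n1, div_ne_zero hw n3, ?_⟩
  rw [← C.dm_cj (g := nw 7) (C.T_idem h3 b 0 w), C.cj_mul, C.cj_mul, C.cj_e_of_map n1 h8,
    C.cj_e_of_map n2 h9', C.cj_e_of_map n3 h11, zero_div, ← mul_assoc, ← (C.e89 h3 0 _).eq, mul_assoc]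

theorem e11_parts {w : F} (hw : w ≠ 0) : ∃ r : ℕ,
    Fintype.card F * C.nQ 1 = (Fintype.card F - 1) * dm (C.e 9 1 * C.e 11 1) +
      ((Fintype.card F - 1) * dm (C.e 8 0 * (C.e 9 1 * C.e 11 1)) + Fintype.card F * r) ∧
    (∀ s w : F, s ≠ 0 → w ≠ 0 → dm (C.e 8 0 * (C.e 9 s * C.e 11 w)) = dm (C.e 8 0 * (C.e 9 1 * C.e 11 1))) ∧
    dm (C.e 9 1 * C.e 11 1) = Fintype.card F * dm (C.e 8 0 * (C.e 9 1 * C.e 11 1)) := by
  classical
  have hq : 0 < Fintype.card F := Fintype.card_pos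
  have h2 : ∀ s w : F, s ≠ 0 → w ≠ 0 →
      dm (C.e 8 0 * (C.e 9 s * C.e 11 w)) = dm (C.e 8 0 * (C.e 9 1 * C.e 11 1)) := by
    intro s w hs hw
    have h := C.torus_89 h3 hs hw
    rw [C.shift8 h3 hs, C.shift8 h3 one_ne_zero] at h
    exact Nat.eq_of_mul_eq_mul_left hq h
  refine ⟨dm (C.e 6 0 * (C.e 8 0 * (C.e 9 0 * C.e 11 w))), ?_, h2, C.shift8 h3 one_ne_zero 1⟩
  have he := C.dm_e11 C.hcomm_one IsIdempotentElem.one hw
  rw [one_mul] at he
  rw [← he, C.split (r := 9) (C.e_idem 11 w) (fun t => (C.Xe_comm (by simp) t w).symm),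
    ← Finset.add_sum_erase _ _ (Finset.mem_univ (0 : F)), add_comm,
    Finset.sum_congr rfl fun s hs => C.torus_89 h3 (Finset.ne_of_mem_erase hs) hw, Finset.sum_const, smul_eq_mul,
    Finset.card_erase_of_mem (Finset.mem_univ _), Finset.card_univ]
  congr 1
  rw [C.split (r := 8) (C.P9_idem h3 0 w) (C.P9_X8 h3 0 w),
    ← Finset.add_sum_erase _ _ (Finset.mem_univ (0 : F)), add_comm, C.T_q_dvd h3 0 0 hw,
    Finset.sum_congr rfl fun b hb => ?_, Finset.sum_const, smul_eq_mul,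
    Finset.card_erase_of_mem (Finset.mem_univ _), Finset.card_univ]
  obtain ⟨s', w', hs', hw', e⟩ := C.n7_T h3 (Finset.ne_of_mem_erase hb) hw
  rw [e, h2 s' w' hs' hw']

include h9

theorem M_pos : 0 < dm (C.e 8 0 * (C.e 9 1 * C.e 11 1)) := by
  classical
  by_contra hM
  obtain ⟨r, -, h2, h89⟩ := C.e11_parts h3 (one_ne_zero (α := F))
  have hM1 : dm (C.e 8 0 * (C.e 9 1 * C.e 11 1)) = 0 := by omega
  have hz : ∀ s w : F, s ≠ 0 → w ≠ 0 → C.e 9 s * C.e 11 w = 0 := fun s w hs hw => by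
    refine eq_zero_of_dm ?_
    rw [C.torus_89 h3 hs hw, h89, hM1, mul_zero]
  have h90 : ∀ w : F, w ≠ 0 → C.e 9 0 * C.e 11 w = C.e 11 w := fun w hw => by
    have := congrArg (· * C.e 11 w) (C.e_sum 9)
    rwa [Finset.sum_mul, Finset.sum_eq_single_of_mem (0 : F) (Finset.mem_univ _) (fun s _ hs => hz s w hs hw),
      one_mul] at this
  have h80 : ∀ w : F, w ≠ 0 → C.e 8 0 * C.e 11 w = C.e 11 w := fun w hw => by
    have := congrArg (· * C.e 11 w) (C.e_sum 8)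
    rwa [Finset.sum_mul, Finset.sum_eq_single_of_mem (0 : F) (Finset.mem_univ _) (fun b _ hb => by
      refine eq_zero_of_dm ?_
      rw [← h90 w hw]
      obtain ⟨s', w', hs', hw', e⟩ := C.n7_T h3 hb hw
      rw [e, h2 s' w' hs' hw', hM1]), one_mul] at this
  have h7 : ∀ v : F, v ≠ 0 → ∀ t, C.X 7 t * C.e 10 v = C.e 10 v := by
    intro v hv t
    obtain ⟨e1, he1, h8'⟩ := n6_conj (F := F) 8 7 (by simp)
    obtain ⟨e2, he2, h11⟩ := n6_conj (F := F) 11 10 (by simp)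
    have n1 : e1 ≠ 0 := by rcases he1 with rfl | rfl <;> simp
    have n2 : e2 ≠ 0 := by rcases he2 with rfl | rfl <;> simp
    have := congrArg (C.cj (nw 6)) (h80 (e2 * v) (mul_ne_zero n2 hv))
    rw [C.cj_mul, C.cj_e_of_map n1 h8', C.cj_e_of_map n2 h11, zero_div, mul_div_cancel_left₀ v n2] at this
    exact C.fixed_e this t
  obtain ⟨u, hu0, hu1, hu2⟩ := exists_ne_three (F := F) (by omega)
  set P := C.e 10 1 * C.e 11 1 with hP
  have hP0 : P ≠ 0 := fun h => by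
    have := C.line_dm C.hcomm_one IsIdempotentElem.one 1 1 (Or.inl one_ne_zero)
    rw [one_mul, ← hP, h, dm_zero] at this
    have := C.nQ_one_pos
    omega
  have f10 : C.e 10 1 * P = P := by rw [hP, ← mul_assoc, (C.e_idem 10 1).eq]
  have f11 : C.e 11 1 * P = P := by
    rw [hP, ← mul_assoc, (C.ee_comm (r := 10) (r' := 11) (by simp) 1 1).eq, mul_assoc, (C.e_idem 11 1).eq]
  have f8 : C.e 8 0 * P = P := by
    conv_lhs => rw [← f11, ← mul_assoc, h80 1 one_ne_zero]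
    exact f11
  have f9 : C.e 9 0 * P = P := by
    conv_lhs => rw [← f11, ← mul_assoc, h90 1 one_ne_zero]
    exact f11
  have f7 : ∀ t, C.X 7 t * P = P := fun t => by rw [hP, ← mul_assoc, h7 1 one_ne_zero]
  have hcj : C.cj (x 6 u) P = C.e 10 (1 - u) * C.e 11 1 := by
    rw [hP, C.cj_mul, C.cj_eq_self (A := C.e 11 1) (C.Xe_comm (by simp) u 1),
      C.cj_e_one (δ := u) (fun t => x 11 (u * t)) (fun t => c6_10 u t) (fun t => ?_)]
    show C.X 11 _ * _ = _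
    rw [C.eigen_e (C.e_idem 11 1).eq, one_mul]
  have key : ∀ t : F, C.ψ ((u + u ^ 2) * t) = 1 := by
    intro t'
    obtain ⟨t, rfl⟩ := (cube_bij h3).2 t'
    have hA : C.X 7 t * (C.ρ (x 6 u) * P) = C.ρ (x 6 u) * P := by
      have e : C.ρ (x 6 u) * P = C.cj (x 6 u) P * C.ρ (x 6 u) := by
        rw [cj, mul_assoc, C.rho_inv, mul_one]
      rw [e, hcj, ← mul_assoc, ← mul_assoc, h7 _ (sub_ne_zero.2 (Ne.symm hu1))]
    have e : (x 6 u)⁻¹ * x 7 t * x 6 u = x 7 t * (x 8 (-u * t) * (x 9 (-u * t ^ 2) *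
        (x 10 (-(-u * t ^ 3)) * x 11 (-(2 * (-u) ^ 2 * t ^ 3))))) := by
      rw [← c6_7, x_inv, x_inv, neg_neg]
    have hB : C.X 7 t * (C.ρ (x 6 u) * P) = C.ψ ((u + u ^ 2) * t ^ 3) • (C.ρ (x 6 u) * P) := by
      rw [X, ← mul_assoc, ← map_mul, show x 7 t * x 6 u = x 6 u * ((x 6 u)⁻¹ * x 7 t * x 6 u) by group,
        map_mul, mul_assoc, e, ← mul_smul_comm]
      congr 1
      simp only [map_mul, mul_assoc]
      show C.X 7 t * (C.X 8 _ * (C.X 9 _ * (C.X 10 _ * (C.X 11 _ * P)))) = _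
      rw [C.eigen_e f11, mul_smul_comm, C.eigen_e f10, smul_smul, ← AddChar.map_add_eq_mul, mul_smul_comm,
        mul_smul_comm, mul_smul_comm, C.fixed_e f9, C.fixed_e f8, f7]
      congr 2
      linear_combination (-(u ^ 2 * t ^ 3)) * h3
    rw [hA] at hB
    have hne : C.ρ (x 6 u) * P ≠ 0 := fun h => hP0 (by
      rw [← one_mul P, ← C.rho_inv (x 6 u), mul_assoc, h, mul_zero])
    exact (smul_left_injective ℂ hne (hB.symm.trans (one_smul ℂ _).symm))
  have : u + u ^ 2 = 0 := by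
    by_contra h
    refine C.hψ h (DFunLike.ext _ _ fun t => ?_)
    rw [AddChar.mulShift_apply, key, AddChar.one_apply]
  have : u * (u + 1) = 0 := by linear_combination this
  rcases mul_eq_zero.1 this with h | h
  · exact hu0 h
  · exact hu2 (eq_neg_of_add_eq_zero_left h)

/-! ### The extremal case -/

variable (hm : dm (C.e 8 0 * (C.e 9 1 * C.e 11 1)) = Fintype.card F)
include hm

theorem dm_e9B3 {v s : F} (hv : v ≠ 0) (hs : s ≠ 0) : dm (C.e 9 s * C.B v) = Fintype.card F := by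
  have hM : ∀ s w : F, s ≠ 0 → w ≠ 0 → dm (C.e 9 s * C.e 11 w) = Fintype.card F * Fintype.card F := by
    intro s w hs hw
    obtain ⟨r, -, -, h89⟩ := C.e11_parts h3 (one_ne_zero (α := F))
    rw [C.torus_89 h3 hs hw, h89, hm]
  -- the characters of `X₁₀` above a non-trivial character of `X₁₁`
  have h0 : ∀ s w : F, s ≠ 0 → w ≠ 0 → dm (C.e 10 0 * (C.e 9 s * C.e 11 w)) = Fintype.card F := by
    intro s w hs hw
    have hc : ∀ t, Commute (C.e 9 s * C.e 11 w) (C.X 10 t) := fun t =>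
      (C.e9X10 h3 s t).mul_left (C.e11_comm10 w t)
    have h := C.dm_equal h3 (C.P9_idem h3 s w) hc 0 fun a => by
      have hfix : C.cj (x 6 (a / w)) (C.e 9 s * C.e 11 w) = C.e 9 s * C.e 11 w :=
        C.cj_eq_self ((C.Xe_comm (by simp) _ s).mul_right (C.Xe_comm (by simp) _ w))
      have h1 : C.cj (x 6 (a / w)) (C.e 10 a * (C.e 9 s * C.e 11 w)) = C.e 10 0 * (C.e 9 s * C.e 11 w) := by
        rw [C.cj_mul, hfix, C.cj_e_one (δ := a) (fun t => x 11 (a / w * t)) (fun t => c6_10 _ _) (fun t => ?_),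
          sub_self]
        show C.X 11 _ * _ = _
        rw [C.eigen_e (show C.e 11 w * (C.e 9 s * C.e 11 w) = C.e 9 s * C.e 11 w by
          rw [← mul_assoc, (C.ee_comm (r := 9) (r' := 11) (by simp) w s).eq, mul_assoc, (C.e_idem 11 w).eq])]
        congr 2
        field_simp
      rw [← h1, C.dm_cj (C.e_mul_idem (C.P9_idem h3 s w) hc a)]
    rw [hM s w hs hw] at h
    exact (Nat.eq_of_mul_eq_mul_left Fintype.card_pos h).symm
  obtain ⟨e1, he1, h9'⟩ := n6_conj (F := F) 9 9 (by simp)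
  obtain ⟨e2, he2, h11⟩ := n6_conj (F := F) 11 10 (by simp)
  obtain ⟨e3, he3, h10⟩ := n6_conj (F := F) 10 11 (by simp)
  have n1 : e1 ≠ 0 := by rcases he1 with rfl | rfl <;> simp
  have n2 : e2 ≠ 0 := by rcases he2 with rfl | rfl <;> simp
  have n3 : e3 ≠ 0 := by rcases he3 with rfl | rfl <;> simp
  have h1 : C.cj (nw 6) (C.e 10 0 * (C.e 9 (e1 * s) * C.e 11 (e2 * v))) = C.e 9 s * C.B v := by
    rw [C.cj_mul, C.cj_mul, C.cj_e_of_map n1 h9', C.cj_e_of_map n2 h11, C.cj_e_of_map n3 h10, zero_div,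
      mul_div_cancel_left₀ s n1, mul_div_cancel_left₀ v n2, B, ← mul_assoc,
      (C.ee_comm (r := 9) (r' := 11) (by simp) 0 s).eq, mul_assoc, (C.ee_comm (r := 11) (r' := 10) (by simp) v 0).eq]
  rw [← h1, C.dm_cj, h0 _ _ (mul_ne_zero n1 hs) (mul_ne_zero n2 hv)]
  exact C.e_mul_idem (C.P9_idem h3 _ _) (fun t => (C.e9X10 h3 _ t).mul_left (C.e11_comm10 _ t)) 0

omit hm in
theorem P9B_idem (s v : F) : IsIdempotentElem (C.e 9 s * C.B v) := C.e_mul_idem (C.B_idem v) (C.B_X9 v 0) s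

omit hm in
theorem P9B_X8 (s v t : F) : Commute (C.e 9 s * C.B v) (C.X 8 t) :=
  (C.e_comm_op (fun s' => C.X89 h3 t s') s).symm.mul_left
    ((C.Xe_comm (by simp) t v).mul_right (C.Xe_comm (by simp) t 0)).symm

omit hm in
theorem shift8B {s : F} (hs : s ≠ 0) (v : F) :
    dm (C.e 9 s * C.B v) = Fintype.card F * dm (C.e 8 0 * (C.e 9 s * C.B v)) := by
  refine C.dm_equal h3 (C.P9B_idem h3 h9 s v) (C.P9B_X8 h3 h9 s v) 0 fun b => ?_
  have h1 : C.cj (x 7 (b / s)) (C.e 8 b * (C.e 9 s * C.B v)) = C.e 8 0 * (C.e 9 s * C.B v) := by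
    rw [C.cj_mul, C.cj_mul (x 7 (b / s)) (C.e 9 s), C.cj_x7_e9 h3, C.cj_x7_B,
      C.cj_x7_e8 h3 (s := s) (by rw [← mul_assoc, (C.e_idem 9 s).eq]), mul_div_cancel₀ b hs, sub_self]
  rw [← h1, C.dm_cj (C.e_mul_idem (C.P9B_idem h3 h9 s v) (C.P9B_X8 h3 h9 s v) b)]

theorem dm_P {v s : F} (hv : v ≠ 0) (hs : s ≠ 0) : dm (C.e 8 0 * (C.e 9 s * C.B v)) = 1 := by
  have h := C.shift8B h3 h9 hs v
  rw [C.dm_e9B3 h3 h9 hm hv hs] at h
  exact (mul_eq_left₀ Fintype.card_ne_zero).1 h.symm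

omit hm in
theorem P_idem (b s v : F) : IsIdempotentElem (C.e 8 b * (C.e 9 s * C.B v)) :=
  C.e_mul_idem (C.P9B_idem h3 h9 s v) (C.P9B_X8 h3 h9 s v) b

omit hm in
theorem P_X6 (b s v t : F) : Commute (C.e 8 b * (C.e 9 s * C.B v)) (C.X 6 t) :=
  ((C.Xe_comm (by simp) t b).mul_right ((C.Xe_comm (by simp) t s).mul_right (C.B_X6 v t).symm)).symm

omit hm in
/-- The conjugate of a projection by `x₄ u`. -/
theorem x4_abs {f s v u : F} {P : End ℂ V} (h6 : C.e 6 f * P = P) (h8 : C.e 8 0 * P = P)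
    (h9' : C.e 9 s * P = P) (h11 : C.e 11 0 * P = P) (h10 : C.e 10 v * P = P) :
    C.e 6 f * C.cj (x 4 u) P = C.cj (x 4 u) P ∧
      C.e 8 0 * (C.e 9 s * C.B (v - u * s - u ^ 3 * f)) * C.cj (x 4 u) P = C.cj (x 4 u) P := by
  set Q := C.cj (x 4 u) P with hQ
  have k6 : C.e 6 f * Q = Q := by
    rw [← C.cj_eq_self (g := x 4 u) (A := C.e 6 f) (C.e_comm_rho (fun t => c4_6 u t) f)]
    exact C.cj_absorb h6
  have k8 : C.e 8 0 * Q = Q := by
    rw [← C.cj_eq_self (g := x 4 u) (A := C.e 8 0) (C.e_comm_op (fun t => C.X48 h3 u t) 0)]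
    exact C.cj_absorb h8
  have k11 : C.e 11 0 * Q = Q := by
    rw [← C.cj_eq_self (g := x 4 u) (A := C.e 11 0) (C.e_comm_rho (fun t => c4_11 u t) 0)]
    exact C.cj_absorb h11
  have k9 : C.e 9 s * Q = Q := by
    have := C.cj_absorb (g := x 4 u) h9'
    rwa [← hQ, C.cj_e_one (δ := 0) (fun t => x 8 (-(2 * u * t)) * (x 6 (3 * u ^ 2 * t) * x 11 (-(3 * u * t ^ 2))))
      (fun t => c4_9 u t) (fun t => by
        rw [h3]
        simp only [zero_mul, neg_zero, x_zero, mul_one, AddChar.map_zero_eq_one, one_smul]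
        exact C.fixed_e k8 _), sub_zero] at this
  have k10 : C.e 10 (v - u * s - u ^ 3 * f) * Q = Q := by
    have := C.cj_absorb (g := x 4 u) h10
    rwa [← hQ, C.cj_e_one (δ := u * s + u ^ 3 * f)
      (fun t => x 9 (u * t) * (x 8 (-(u ^ 2 * t)) * (x 6 (u ^ 3 * t) * x 11 (-(u ^ 3 * t ^ 2)))))
      (fun t => c4_10 u t) (fun t => by
        simp only [map_mul, mul_assoc]
        show C.X 9 _ * (C.X 8 _ * (C.X 6 _ * (C.X 11 _ * Q))) = _
        rw [C.fixed_e k11, C.eigen_e k6, mul_smul_comm, mul_smul_comm, C.fixed_e k8, C.eigen_e k9, smul_smul,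
          ← AddChar.map_add_eq_mul]
        congr 2
        ring), ← sub_sub] at this
  refine ⟨k6, ?_⟩
  rw [B, mul_assoc, mul_assoc, mul_assoc, k11, k10, k9, k8]

omit hm in
theorem P_abs (s v : F) : C.e 8 0 * (C.e 8 0 * (C.e 9 s * C.B v)) = C.e 8 0 * (C.e 9 s * C.B v) ∧
    C.e 9 s * (C.e 8 0 * (C.e 9 s * C.B v)) = C.e 8 0 * (C.e 9 s * C.B v) ∧
    C.e 11 0 * (C.e 8 0 * (C.e 9 s * C.B v)) = C.e 8 0 * (C.e 9 s * C.B v) ∧
    C.e 10 v * (C.e 8 0 * (C.e 9 s * C.B v)) = C.e 8 0 * (C.e 9 s * C.B v) := by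
  refine ⟨by rw [← mul_assoc, (C.e_idem 8 0).eq], ?_, ?_, ?_⟩
  · rw [← mul_assoc, ← (C.e89 h3 0 s).eq, mul_assoc, ← mul_assoc (C.e 9 s) (C.e 9 s), (C.e_idem 9 s).eq]
  · rw [← mul_assoc, (C.ee_comm (r := 8) (r' := 11) (by simp) 0 0).eq, mul_assoc, ← mul_assoc (C.e 11 0),
      (C.ee_comm (r := 9) (r' := 11) (by simp) 0 s).eq, mul_assoc, C.e11_B]
  · rw [← mul_assoc, (C.ee_comm (r := 8) (r' := 10) (by simp) v 0).eq, mul_assoc, ← mul_assoc (C.e 10 v),
      (C.ee_comm (r := 9) (r' := 10) (by simp) v s).eq, mul_assoc, C.e10_B]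

omit hm in
theorem delta_const {s : F} (hs : s ≠ 0) :
    dm (C.e 8 0 * (C.e 9 s * C.B 0)) = dm (C.e 8 0 * (C.e 9 1 * C.B 0)) := by
  have h : C.cj (tau 1 (Units.mk0 s hs)) (C.e 8 0 * (C.e 9 s * C.B 0)) = C.e 8 0 * (C.e 9 1 * C.B 0) := by
    rw [B, C.cj_mul, C.cj_mul, C.cj_mul, C.cj_tau _ _ (by decide), C.cj_tau _ _ (by decide),
      C.cj_tau _ _ (by decide), C.cj_tau _ _ (by decide), zero_div, zero_div, zero_div]
    simp [co7, co6, hs]
  rw [← h, C.dm_cj (C.P_idem h3 h9 0 s 0)]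

/-- Either four characters of `X₆` occur, or all rank one pieces are fixed by `X₆`. -/
theorem dichotomy : 4 ≤ dm (C.e 8 0 * (C.e 9 1 * C.B 0)) ∨
    ∀ s v : F, s ≠ 0 → v ≠ 0 → C.e 6 0 * (C.e 8 0 * (C.e 9 s * C.B v)) = C.e 8 0 * (C.e 9 s * C.B v) := by
  classical
  by_cases hcase : ∀ s v : F, s ≠ 0 → v ≠ 0 →
      C.e 6 0 * (C.e 8 0 * (C.e 9 s * C.B v)) = C.e 8 0 * (C.e 9 s * C.B v)
  · exact Or.inr hcase
  left
  push Not at hcase
  obtain ⟨s, v, hs, hv, hne⟩ := hcase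
  obtain ⟨g, hg⟩ := C.exists_eigen (C.P_idem h3 h9 0 s v) (C.dm_P h3 h9 hm hv hs) (C.P_X6 h3 h9 0 s v)
  have hg0 : g ≠ 0 := fun h => hne (h ▸ hg)
  obtain ⟨p8, p9, p11, p10⟩ := C.P_abs h3 h9 s v
  -- a conjugate below `v = 0`
  obtain ⟨u, hu⟩ : ∃ u : F, v - u * s - u ^ 3 * g = 0 := by
    by_contra hall
    push Not at hall
    have hsq : ∀ u : F, (v - u * s - u ^ 3 * g) ^ 2 = v ^ 2 := by
      intro u
      set v' := v - u * s - u ^ 3 * g with hv'
      have hv0 : v' ≠ 0 := hall u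
      obtain ⟨k6, kP⟩ := C.x4_abs h3 h9 (u := u) hg p8 p9 p11 p10
      set c : Fˣ := Units.mk0 (v / v') (div_ne_zero hv hv0) with hc
      have hT : C.cj (tau c (c ^ 2)⁻¹) (C.e 8 0 * (C.e 9 s * C.B v)) = C.e 8 0 * (C.e 9 s * C.B v') := by
        rw [B, C.cj_mul, C.cj_mul, C.cj_mul, C.cj_tau _ _ (by decide), C.cj_tau _ _ (by decide),
          C.cj_tau _ _ (by decide), C.cj_tau _ _ (by decide), zero_div, zero_div, B]
        congr 2
        · simp [co7, co6, hc]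
        · congr 2
          simp [co7, co6, hc]
          field_simp
      have hgv : C.e 6 (g * ((c : F)) ^ 2) * (C.e 8 0 * (C.e 9 s * C.B v')) = C.e 8 0 * (C.e 9 s * C.B v') := by
        have := C.cj_absorb (g := tau c (c ^ 2)⁻¹) hg
        rw [hT, C.cj_tau _ _ (by decide)] at this
        simpa [co7, co6, div_inv_eq_mul] using this
      have hQ0 : C.cj (x 4 u) (C.e 8 0 * (C.e 9 s * C.B v)) ≠ 0 := fun h => by
        have := C.dm_cj (g := x 4 u) (C.P_idem h3 h9 0 s v)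
        rw [h, dm_zero, C.dm_P h3 h9 hm hv hs] at this
        omega
      by_contra hsq
      refine hQ0 ?_
      have hne : g ≠ g * ((c : F)) ^ 2 := by
        intro h
        apply hsq
        have h1 : ((c : F)) ^ 2 = 1 := (mul_eq_left₀ hg0).1 h.symm
        rw [hc, Units.val_mk0, div_pow, div_eq_one_iff_eq (pow_ne_zero 2 hv0)] at h1
        exact h1.symm
      rw [← kP, ← hgv, mul_assoc, kP]
      exact C.e_kill hne.symm k6
    -- the additive map `u ↦ u s + u³ g` is constant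
    have hL : ∀ u : F, u * s + u ^ 3 * g = 0 := by
      intro u
      by_contra hL0
      have a1 : (u * s + u ^ 3 * g) * (u * s + u ^ 3 * g - 2 * v) = 0 := by linear_combination hsq u
      have a2 : (-(u * s + u ^ 3 * g)) * (-(u * s + u ^ 3 * g) - 2 * v) = 0 := by linear_combination hsq (-u)
      have b1 := (mul_eq_zero.1 a1).resolve_left hL0
      have b2 := (mul_eq_zero.1 a2).resolve_left (neg_ne_zero.2 hL0)
      exact hv (by linear_combination -b1 - b2 - v * h3)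
    obtain ⟨w, hw0, hw1, hw2⟩ := exists_ne_three (F := F) (by omega)
    have a1 := hL 1
    have aw := hL w
    have : w * s * (1 - w ^ 2) = 0 := by linear_combination aw - w ^ 3 * a1
    rcases mul_eq_zero.1 this with h | h
    · exact hs ((mul_eq_zero.1 h).resolve_left hw0)
    · have : (w - 1) * (w + 1) = 0 := by linear_combination -h
      rcases mul_eq_zero.1 this with h' | h'
      · exact hw1 (sub_eq_zero.1 h')
      · exact hw2 (eq_neg_of_add_eq_zero_left h')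
  obtain ⟨k6, kP⟩ := C.x4_abs h3 h9 (u := u) hg p8 p9 p11 p10
  rw [hu] at kP
  set Q := C.cj (x 4 u) (C.e 8 0 * (C.e 9 s * C.B v)) with hQdef
  have hQ : dm Q = 1 := by rw [hQdef, C.dm_cj (C.P_idem h3 h9 0 s v), C.dm_P h3 h9 hm hv hs]
  have h1 : ∀ c : Fˣ, 1 ≤ dm (C.e 6 (g * (c : F) ^ 2) * (C.e 8 0 * (C.e 9 s * C.B 0))) := by
    intro c
    have hb : C.cj (tau c (c ^ 2)⁻¹) (C.e 6 g * (C.e 8 0 * (C.e 9 s * C.B 0))) =
        C.e 6 (g * (c : F) ^ 2) * (C.e 8 0 * (C.e 9 s * C.B 0)) := by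
      rw [B, C.cj_mul, C.cj_mul, C.cj_mul, C.cj_mul, C.cj_tau _ _ (by decide), C.cj_tau _ _ (by decide),
        C.cj_tau _ _ (by decide), C.cj_tau _ _ (by decide), C.cj_tau _ _ (by decide), zero_div, zero_div, zero_div]
      simp [co7, co6, div_inv_eq_mul]
    rw [← hb, C.dm_cj (C.e_mul_idem (C.P_idem h3 h9 0 s 0) (C.P_X6 h3 h9 0 s 0) g)]
    have h2 : C.e 6 g * (C.e 8 0 * (C.e 9 s * C.B 0)) * Q = Q := by rw [mul_assoc, kP, k6]
    have := dm_le_of_mul h2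
    omega
  rw [← C.delta_const h3 h9 hs]
  have hsplit := C.split (C.P_idem h3 h9 0 s 0) (C.P_X6 h3 h9 0 s 0)
  set S := (Finset.univ.image fun c : Fˣ => g * (c : F) ^ 2) with hS
  have hle : S.card • 1 ≤ dm (C.e 8 0 * (C.e 9 s * C.B 0)) := by
    rw [hsplit]
    refine le_trans (Finset.card_nsmul_le_sum S _ 1 fun a ha => ?_) (Finset.sum_le_sum_of_subset (Finset.subset_univ S))
    obtain ⟨c, -, rfl⟩ := Finset.mem_image.1 ha
    exact h1 c
  rw [smul_eq_mul, mul_one] at hle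
  have hcard : Fintype.card F - 1 ≤ 2 * S.card := by
    rw [← Fintype.card_units, ← Finset.card_univ]
    refine Finset.card_le_mul_card_image _ 2 fun b hb => ?_
    obtain ⟨c, -, rfl⟩ := Finset.mem_image.1 hb
    refine le_trans (Finset.card_le_card (t := {c, -c}) fun d hd => ?_) Finset.card_le_two
    rw [Finset.mem_filter] at hd
    rcases sq_eq_sq_iff_eq_or_eq_neg.1 (mul_left_cancel₀ hg0 hd.2) with h | h
    · simp [Units.ext h]
    · simp [show d = -c from Units.ext (by simpa using h)]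
  omega

omit hm in
theorem dm_e9Cp {s : F} (hs : s ≠ 0) :
    dm (C.e 9 s * C.B 0) = Fintype.card F * dm (C.e 8 0 * (C.e 9 1 * C.B 0)) := by
  rw [C.shift8B h3 h9 hs, C.delta_const h3 h9 hs]

variable (h6 : ∀ s v : F, s ≠ 0 → v ≠ 0 → C.e 6 0 * (C.e 8 0 * (C.e 9 s * C.B v)) = C.e 8 0 * (C.e 9 s * C.B v))
include h6

theorem zero_fix {s : F} (hs : s ≠ 0) : 1 ≤ dm (C.e 6 0 * (C.e 8 0 * (C.e 9 s * C.B 0))) := by
  obtain ⟨p8, p9, p11, p10⟩ := C.P_abs h3 h9 s s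
  obtain ⟨k6, kP⟩ := C.x4_abs h3 h9 (u := 1) (h6 s s hs hs) p8 p9 p11 p10
  rw [one_mul, sub_self, mul_zero, sub_zero] at kP
  have h2 : C.e 6 0 * (C.e 8 0 * (C.e 9 s * C.B 0)) * C.cj (x 4 1) (C.e 8 0 * (C.e 9 s * C.B s)) =
      C.cj (x 4 1) (C.e 8 0 * (C.e 9 s * C.B s)) := by rw [mul_assoc, kP, k6]
  have := dm_le_of_mul h2
  rw [C.dm_cj (C.P_idem h3 h9 0 s s), C.dm_P h3 h9 hm hs hs] at this
  exact this

theorem six_zero {f s : F} (hf : f ≠ 0) (hs : s ≠ 0) : C.e 6 f * (C.e 8 0 * (C.e 9 s * C.e 11 0)) = 0 := by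
  classical
  have hv : ∀ v : F, C.e 6 f * (C.e 8 0 * (C.e 9 s * C.B v)) = 0 := by
    intro v
    by_cases hv0 : v = 0
    · subst hv0
      set Q := C.e 6 f * (C.e 8 0 * (C.e 9 s * C.B 0)) with hQ
      obtain ⟨u, hu⟩ : ∃ u : F, 0 - u * s - u ^ 3 * f ≠ 0 := by
        by_contra hall
        push Not at hall
        obtain ⟨w, hw0, hw1, hw2⟩ := exists_ne_three (F := F) (by omega)
        have : w * s * (1 - w ^ 2) = 0 := by linear_combination -(hall w) + w ^ 3 * hall 1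
        rcases mul_eq_zero.1 this with h | h
        · exact hs ((mul_eq_zero.1 h).resolve_left hw0)
        · have : (w - 1) * (w + 1) = 0 := by linear_combination -h
          rcases mul_eq_zero.1 this with h' | h'
          · exact hw1 (sub_eq_zero.1 h')
          · exact hw2 (eq_neg_of_add_eq_zero_left h')
      obtain ⟨p8, p9, p11, p10⟩ := C.P_abs h3 h9 s 0
      have hcm : ∀ {A : End ℂ V}, A * (C.e 8 0 * (C.e 9 s * C.B 0)) = C.e 8 0 * (C.e 9 s * C.B 0) →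
          A * Q = Q := fun {A} hA => by
        have c : Commute (C.e 6 f) (C.e 8 0 * (C.e 9 s * C.B 0)) :=
          (C.e_comm_op (C.P_X6 h3 h9 0 s 0) f).symm
        rw [hQ, c.eq, ← mul_assoc, hA]
      obtain ⟨k6, kP⟩ := C.x4_abs h3 h9 (f := f) (u := u) (P := Q)
        (by rw [hQ, ← mul_assoc, (C.e_idem 6 f).eq]) (hcm p8) (hcm p9) (hcm p11) (hcm p10)
      have h0 : C.cj (x 4 u) Q = 0 := by
        rw [← kP, ← h6 s _ hs hu, mul_assoc, kP]
        exact C.e_kill hf.symm k6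
      rw [← C.cj_inv_cj (x 4 u) Q, h0]
      simp [cj]
    · rw [← h6 s v hs hv0, ← mul_assoc, C.e_orth 6 hf, zero_mul]
  have := congrArg (C.e 6 f * (C.e 8 0 * (C.e 9 s * C.e 11 0)) * ·) (C.e_sum 10)
  simp only [mul_one, Finset.mul_sum] at this
  rw [← this]
  refine Finset.sum_eq_zero fun v _ => ?_
  rw [mul_assoc, mul_assoc, mul_assoc, ← (C.ee_comm (r := 11) (r' := 10) (by simp) v 0).eq]
  exact hv v

theorem eight_zero {b v : F} (hb : b ≠ 0) (hv : v ≠ 0) : C.e 8 b * (C.e 9 0 * C.B v) = 0 := by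
  obtain ⟨e1, he1, h8⟩ := n7_conj (F := F) 8 9 (by simp)
  obtain ⟨e2, he2, h9'⟩ := n7_conj (F := F) 9 8 (by simp)
  obtain ⟨e3, he3, h11⟩ := n7_conj (F := F) 11 11 (by simp)
  obtain ⟨e4, he4, h10⟩ := n7_conj (F := F) 10 6 (by simp)
  have n1 : e1 ≠ 0 := by rcases he1 with rfl | rfl <;> simp
  have n2 : e2 ≠ 0 := by rcases he2 with rfl | rfl <;> simp
  have n3 : e3 ≠ 0 := by rcases he3 with rfl | rfl <;> simp
  have n4 : e4 ≠ 0 := by rcases he4 with rfl | rfl <;> simp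
  have h : C.cj (nw 7) (C.e 8 b * (C.e 9 0 * C.B v)) = 0 := by
    rw [B, C.cj_mul, C.cj_mul, C.cj_mul, C.cj_e_of_map n1 h8, C.cj_e_of_map n2 h9', C.cj_e_of_map n3 h11,
      C.cj_e_of_map n4 h10, zero_div, zero_div, ← mul_assoc (C.e 9 (b / e1)), ← (C.e89 h3 0 _).eq, mul_assoc,
      ← mul_assoc (C.e 9 (b / e1)), ← (C.ee_comm (r := 9) (r' := 6) (by simp) _ _).eq, mul_assoc, ← mul_assoc,
      ← (C.ee_comm (r := 8) (r' := 6) (by simp) (v / e4) 0).eq, mul_assoc]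
    exact C.six_zero h3 h9 hm h6 (div_ne_zero hv n4) (div_ne_zero hb n1)
  rw [← C.cj_inv_cj (nw 7) (C.e 8 b * (C.e 9 0 * C.B v)), h]
  simp [cj]

omit hm h6 in
theorem shift6 {v : F} (hv : v ≠ 0) :
    dm (C.e 8 0 * (C.e 9 0 * C.B v)) = Fintype.card F * dm (C.e 6 0 * (C.e 8 0 * (C.e 9 0 * C.B v))) := by
  refine C.dm_equal h3 (C.P_idem h3 h9 0 0 v) (C.P_X6 h3 h9 0 0 v) 0 fun a => ?_
  set Z := C.e 8 0 * (C.e 9 0 * C.B v) with hZ
  obtain ⟨u, hu⟩ := (cube_bij h3).2 (a / v)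
  obtain ⟨p8, p9, p11, p10⟩ := C.P_abs h3 h9 0 v
  have hfix : C.cj (x 7 u) Z = Z := by
    rw [hZ, C.cj_mul, C.cj_mul (x 7 u) (C.e 9 0), C.cj_x7_e9 h3, C.cj_x7_B,
      C.cj_x7_e8 h3 (s := 0) (by rw [← mul_assoc, (C.e_idem 9 0).eq]), zero_mul, sub_zero]
  have h1 : C.cj (x 7 u) (C.e 6 a * Z) = C.e 6 0 * Z := by
    rw [C.cj_mul, hfix, C.cj_e_one (δ := a)
      (fun t => x 8 (-(u * t)) * (x 9 (u ^ 2 * t) * (x 10 (u ^ 3 * t) * x 11 (u ^ 3 * t ^ 2))))
      (fun t => c7_6 u t) (fun t => ?_), sub_self]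
    simp only [map_mul, mul_assoc]
    show C.X 8 _ * (C.X 9 _ * (C.X 10 _ * (C.X 11 _ * Z))) = _
    rw [C.fixed_e p11, C.eigen_e p10, mul_smul_comm, mul_smul_comm, C.fixed_e p9, C.fixed_e p8]
    congr 2
    have : u ^ 3 * v = a := by
      rw [show u ^ 3 = a / v from hu, div_mul_cancel₀ a hv]
    linear_combination t * this
  rw [← h1, C.dm_cj (C.e_mul_idem (C.P_idem h3 h9 0 0 v) (C.P_X6 h3 h9 0 0 v) a)]

theorem nQ_split {v : F} (hv : v ≠ 0) : C.nQ 1 = (Fintype.card F - 1) * Fintype.card F +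
    Fintype.card F * dm (C.e 6 0 * (C.e 8 0 * (C.e 9 0 * C.B v))) := by
  classical
  have h := C.line_dm C.hcomm_one IsIdempotentElem.one v 0 (Or.inl hv)
  rw [one_mul] at h
  rw [← h, show C.e 10 v * C.e 11 0 = C.B v from rfl]
  rw [C.split (r := 9) (P := C.B v) (C.B_idem v) (C.B_X9 v 0), ← Finset.add_sum_erase _ _ (Finset.mem_univ (0 : F)),
    add_comm, Finset.sum_congr rfl fun s hs => C.dm_e9B3 h3 h9 hm hv (Finset.ne_of_mem_erase hs), Finset.sum_const,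
    smul_eq_mul, Finset.card_erase_of_mem (Finset.mem_univ _), Finset.card_univ]
  congr 1
  rw [← C.shift6 h3 h9 hv, C.split (r := 8) (C.P9B_idem h3 h9 0 v) (C.P9B_X8 h3 h9 0 v)]
  exact Finset.sum_eq_single_of_mem (0 : F) (Finset.mem_univ _) fun b _ hb => by
    rw [C.eight_zero h3 h9 hm h6 hb hv, dm_zero]

variable (hr : ∀ v : F, v ≠ 0 → dm (C.e 6 0 * (C.e 8 0 * (C.e 9 0 * C.B v))) = 1)

theorem eight_pos {b : F} (hb : b ≠ 0) (f : F) : 1 ≤ dm (C.e 6 f * (C.e 8 b * (C.e 9 0 * C.B 0))) := by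
  obtain ⟨e1, he1, h8⟩ := n7_conj (F := F) 8 9 (by simp)
  obtain ⟨e2, he2, h9'⟩ := n7_conj (F := F) 9 8 (by simp)
  obtain ⟨e3, he3, h11⟩ := n7_conj (F := F) 11 11 (by simp)
  obtain ⟨e4, he4, h10⟩ := n7_conj (F := F) 10 6 (by simp)
  obtain ⟨e5, he5, h6'⟩ := n7_conj (F := F) 6 10 (by simp)
  have n1 : e1 ≠ 0 := by rcases he1 with rfl | rfl <;> simp
  have n2 : e2 ≠ 0 := by rcases he2 with rfl | rfl <;> simp
  have n3 : e3 ≠ 0 := by rcases he3 with rfl | rfl <;> simp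
  have n4 : e4 ≠ 0 := by rcases he4 with rfl | rfl <;> simp
  have n5 : e5 ≠ 0 := by rcases he5 with rfl | rfl <;> simp
  set s := e2 * b with hs
  set v := e4 * f with hv
  have hs0 : s ≠ 0 := mul_ne_zero n2 hb
  set P := C.e 6 0 * (C.e 8 0 * (C.e 9 s * C.B v)) with hP
  have hPd : 1 ≤ dm P := by
    by_cases hf : v = 0
    · rw [hP, hf]; exact C.zero_fix h3 h9 hm h6 hs0
    · rw [hP, h6 s v hs0 hf, C.dm_P h3 h9 hm hf hs0]
  obtain ⟨p8, p9, p11, p10⟩ := C.P_abs h3 h9 s v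
  have c : Commute (C.e 6 0) (C.e 8 0 * (C.e 9 s * C.B v)) := (C.e_comm_op (C.P_X6 h3 h9 0 s v) 0).symm
  have ab : ∀ {A : End ℂ V}, A * (C.e 8 0 * (C.e 9 s * C.B v)) = C.e 8 0 * (C.e 9 s * C.B v) → A * P = P :=
    fun {A} hA => by rw [hP, c.eq, ← mul_assoc, hA]
  have k10 := C.cj_absorb (g := nw 7) (show C.e 6 0 * P = P by rw [hP, ← mul_assoc, (C.e_idem 6 0).eq])
  have k9 := C.cj_absorb (g := nw 7) (ab p8)
  have k8 := C.cj_absorb (g := nw 7) (ab p9)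
  have k6 := C.cj_absorb (g := nw 7) (ab p10)
  have k11 := C.cj_absorb (g := nw 7) (ab p11)
  rw [C.cj_e_of_map n5 h6', zero_div] at k10
  rw [C.cj_e_of_map n1 h8, zero_div] at k9
  rw [C.cj_e_of_map n2 h9', hs, mul_div_cancel_left₀ b n2] at k8
  rw [C.cj_e_of_map n4 h10, hv, mul_div_cancel_left₀ f n4] at k6
  rw [C.cj_e_of_map n3 h11, zero_div] at k11
  have hkey : C.e 6 f * (C.e 8 b * (C.e 9 0 * C.B 0)) * C.cj (nw 7) P = C.cj (nw 7) P := by
    rw [B, mul_assoc, mul_assoc, mul_assoc, mul_assoc, k11, k10, k9, k8, k6]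
  have := dm_le_of_mul hkey
  rw [hP, C.dm_cj (C.e_mul_idem (C.P_idem h3 h9 0 s v) (C.P_X6 h3 h9 0 s v) 0), ← hP] at this
  omega

theorem dm_eight {b : F} (hb : b ≠ 0) : Fintype.card F ≤ dm (C.e 8 b * (C.e 9 0 * C.B 0)) := by
  rw [C.split (C.P_idem h3 h9 b 0 0) (C.P_X6 h3 h9 b 0 0)]
  have := Finset.card_nsmul_le_sum (Finset.univ : Finset F) _ 1 fun f _ => C.eight_pos h3 h9 hm h6 hb f
  rwa [smul_eq_mul, mul_one, Finset.card_univ] at this

omit hm h6 in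
theorem P_X7 (b t : F) : Commute (C.e 8 b * (C.e 9 0 * C.B 0)) (C.X 7 t) := by
  refine (C.comm_of_cj (g := x 7 t) ?_).symm
  rw [C.cj_mul, C.cj_mul (x 7 t) (C.e 9 0), C.cj_x7_e9 h3, C.cj_x7_B,
    C.cj_x7_e8 h3 (s := 0) (by rw [← mul_assoc, (C.e_idem 9 0).eq]), zero_mul, sub_zero]

theorem seven_pos {a : F} (ha : a ≠ 0) : 1 ≤ dm (C.e 7 a * (C.e 8 0 * (C.e 9 0 * C.B 0))) := by
  obtain ⟨e1, he1, h7⟩ := n6_conj (F := F) 7 8 (by simp)
  obtain ⟨e2, he2, h8⟩ := n6_conj (F := F) 8 7 (by simp)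
  obtain ⟨e3, he3, h9'⟩ := n6_conj (F := F) 9 9 (by simp)
  obtain ⟨e4, he4, h10⟩ := n6_conj (F := F) 10 11 (by simp)
  obtain ⟨e5, he5, h11⟩ := n6_conj (F := F) 11 10 (by simp)
  have n1 : e1 ≠ 0 := by rcases he1 with rfl | rfl <;> simp
  have n2 : e2 ≠ 0 := by rcases he2 with rfl | rfl <;> simp
  have n3 : e3 ≠ 0 := by rcases he3 with rfl | rfl <;> simp
  have n4 : e4 ≠ 0 := by rcases he4 with rfl | rfl <;> simp
  have n5 : e5 ≠ 0 := by rcases he5 with rfl | rfl <;> simp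
  set b := e2 * a with hbd
  have hb : b ≠ 0 := mul_ne_zero n2 ha
  set A := C.e 8 b * (C.e 9 0 * C.B 0) with hA
  have hAi := C.P_idem h3 h9 b 0 0
  have heq := C.dm_equal h3 hAi (C.P_X7 h3 h9 b) 0 fun a' => by
    have hfix : C.cj (x 6 (a' / b)) A = A := C.cj_eq_self (C.P_X6 h3 h9 b 0 0 _).symm
    have k8 : C.e 8 b * A = A := by rw [hA, ← mul_assoc, (C.e_idem 8 b).eq]
    have k9 : C.e 9 0 * A = A := by
      rw [hA, ← mul_assoc, ← (C.e89 h3 b 0).eq, mul_assoc, ← mul_assoc (C.e 9 0), (C.e_idem 9 0).eq]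
    have k10 : C.e 10 0 * A = A := by
      rw [hA, ← mul_assoc, (C.ee_comm (r := 8) (r' := 10) (by simp) 0 b).eq, mul_assoc, ← mul_assoc (C.e 10 0),
        (C.ee_comm (r := 9) (r' := 10) (by simp) 0 0).eq, mul_assoc, C.e10_B]
    have k11 : C.e 11 0 * A = A := by
      rw [hA, ← mul_assoc, (C.ee_comm (r := 8) (r' := 11) (by simp) 0 b).eq, mul_assoc, ← mul_assoc (C.e 11 0),
        (C.ee_comm (r := 9) (r' := 11) (by simp) 0 0).eq, mul_assoc, C.e11_B]
    have h1 : C.cj (x 6 (a' / b)) (C.e 7 a' * A) = C.e 7 0 * A := by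
      rw [C.cj_mul, hfix, C.cj_e_one (δ := a')
        (fun t => x 8 (a' / b * t) * (x 9 (a' / b * t ^ 2) * (x 10 (-(a' / b * t ^ 3)) *
          x 11 (-(2 * (a' / b) ^ 2 * t ^ 3)))))
        (fun t => c6_7 _ t) (fun t => ?_), sub_self]
      simp only [map_mul, mul_assoc]
      show C.X 8 _ * (C.X 9 _ * (C.X 10 _ * (C.X 11 _ * A))) = _
      rw [C.fixed_e k11, C.fixed_e k10, C.fixed_e k9, C.eigen_e k8]
      congr 2
      field_simp
    rw [← h1, C.dm_cj (C.e_mul_idem hAi (C.P_X7 h3 h9 b) a')]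
  have hq := C.dm_eight h3 h9 hm h6 hb
  rw [← hA, heq] at hq
  have hA1 : 1 ≤ dm (C.e 7 0 * A) := by
    by_contra h
    have h0 : dm (C.e 7 0 * A) = 0 := by omega
    rw [h0, mul_zero] at hq
    omega
  have h1 : C.cj (nw 6) (C.e 7 0 * A) = C.e 7 a * (C.e 8 0 * (C.e 9 0 * C.B 0)) := by
    rw [hA, B, C.cj_mul, C.cj_mul, C.cj_mul, C.cj_mul, C.cj_e_of_map n1 h7, C.cj_e_of_map n2 h8,
      C.cj_e_of_map n3 h9', C.cj_e_of_map n4 h10, C.cj_e_of_map n5 h11, zero_div, zero_div, zero_div, zero_div,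
      hbd, mul_div_cancel_left₀ a n2, (C.ee_comm (r := 10) (r' := 11) (by simp) 0 0).eq]
    show C.e 8 0 * (C.e 7 a * (C.e 9 0 * C.B 0)) = C.e 7 a * (C.e 8 0 * (C.e 9 0 * C.B 0))
    have cA : Commute (C.e 8 0 * (C.e 9 0 * C.B 0)) (C.e 7 a) := C.e_comm_op (C.P_X7 h3 h9 0) a
    have c0 : Commute (C.e 9 0 * C.B 0) (C.e 7 a) := C.e_comm_op (fun t => by
      exact (C.e_comm_op (fun s => C.X79 h3 t s) 0).symm.mul_left
        ((C.Xe_comm (by simp) t 0).mul_right (C.Xe_comm (by simp) t 0)).symm) a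
    rw [← cA.eq, mul_assoc, c0.eq]
  rw [← h1, C.dm_cj (C.e_mul_idem hAi (C.P_X7 h3 h9 b) 0)]
  exact hA1

include hr

theorem dm_H : 2 * (Fintype.card F - 1) ≤ dm (C.e 8 0 * (C.e 9 0 * C.B 0)) := by
  classical
  obtain ⟨e1, he1, h8⟩ := n7_conj (F := F) 8 9 (by simp)
  obtain ⟨e2, he2, h9'⟩ := n7_conj (F := F) 9 8 (by simp)
  obtain ⟨e3, he3, h11⟩ := n7_conj (F := F) 11 11 (by simp)
  obtain ⟨e4, he4, h10⟩ := n7_conj (F := F) 10 6 (by simp)
  obtain ⟨e5, he5, h6'⟩ := n7_conj (F := F) 6 10 (by simp)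
  have n1 : e1 ≠ 0 := by rcases he1 with rfl | rfl <;> simp
  have n2 : e2 ≠ 0 := by rcases he2 with rfl | rfl <;> simp
  have n3 : e3 ≠ 0 := by rcases he3 with rfl | rfl <;> simp
  have n4 : e4 ≠ 0 := by rcases he4 with rfl | rfl <;> simp
  have n5 : e5 ≠ 0 := by rcases he5 with rfl | rfl <;> simp
  set H := C.e 8 0 * (C.e 9 0 * C.B 0) with hH
  have hHi := C.P_idem h3 h9 0 0 0
  have hH6 := C.P_X6 h3 h9 0 0 0
  have hH7 := C.P_X7 h3 h9 0
  have hone : ∀ f : F, f ≠ 0 → dm (C.e 6 f * H) = 1 := by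
    intro f hf
    have hv : e4 * f ≠ 0 := mul_ne_zero n4 hf
    have h1 : C.cj (nw 7) (C.e 6 0 * (C.e 8 0 * (C.e 9 0 * C.B (e4 * f)))) = C.e 6 f * H := by
      rw [hH, B, B, C.cj_mul, C.cj_mul, C.cj_mul, C.cj_mul, C.cj_e_of_map n5 h6', C.cj_e_of_map n1 h8,
        C.cj_e_of_map n2 h9', C.cj_e_of_map n4 h10, C.cj_e_of_map n3 h11, zero_div, zero_div, zero_div, zero_div,
        mul_div_cancel_left₀ f n4]
      have c1 := C.e_comm_op (C.B_X6 0) f
      simp only [B] at c1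
      calc C.e 10 0 * (C.e 9 0 * (C.e 8 0 * (C.e 6 f * C.e 11 0)))
          = C.e 8 0 * (C.e 9 0 * (C.e 10 0 * C.e 11 0 * C.e 6 f)) := by
            rw [(C.ee_comm (r := 11) (r' := 6) (by simp) f 0).eq, ← mul_assoc (C.e 9 0), ← (C.e89 h3 0 0).eq,
              mul_assoc, ← mul_assoc, (C.ee_comm (r := 8) (r' := 10) (by simp) 0 0).eq, mul_assoc,
              ← mul_assoc (C.e 10 0) (C.e 9 0), (C.ee_comm (r := 9) (r' := 10) (by simp) 0 0).eq]
            simp only [mul_assoc]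
        _ = _ := by
            rw [c1.eq, ← mul_assoc (C.e 9 0), (C.ee_comm (r := 6) (r' := 9) (by simp) 0 f).eq, mul_assoc,
              ← mul_assoc (C.e 8 0), (C.ee_comm (r := 6) (r' := 8) (by simp) 0 f).eq, mul_assoc]
    rw [← h1, C.dm_cj (C.e_mul_idem (C.P_idem h3 h9 0 0 _) (C.P_X6 h3 h9 0 0 _) 0), hr _ hv]
  -- `X₇` fixes these
  obtain ⟨w, hw0, hw1, -⟩ := exists_ne_three (F := F) (by omega)
  obtain ⟨p8, p9, p11, p10⟩ := C.P_abs h3 h9 0 0
  have hfix7 : ∀ f u : F, C.cj (x 7 u) (C.e 6 f * H) = C.e 6 f * H := by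
    intro f u
    rw [C.cj_mul, C.cj_eq_self (g := x 7 u) (A := H) (hH7 u).symm,
      C.cj_e_one (δ := 0)
        (fun t => x 8 (-(u * t)) * (x 9 (u ^ 2 * t) * (x 10 (u ^ 3 * t) * x 11 (u ^ 3 * t ^ 2))))
        (fun t => c7_6 u t) (fun t => ?_), sub_zero]
    simp only [map_mul, mul_assoc]
    show C.X 8 _ * (C.X 9 _ * (C.X 10 _ * (C.X 11 _ * H))) = _
    rw [C.fixed_e p11, C.fixed_e p10, C.fixed_e p9, C.fixed_e p8, zero_mul, AddChar.map_zero_eq_one, one_smul]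
  have hc7 : ∀ f t : F, Commute (C.e 6 f * H) (C.X 7 t) := fun f t => (C.comm_of_cj (g := x 7 t) (hfix7 f t)).symm
  have hkill : ∀ a f : F, a ≠ 0 → f ≠ 0 → C.e 7 a * (C.e 6 f * H) = 0 := by
    intro a f ha hf
    refine C.e_kill ha (C.eigen_trivial (C.e_mul_idem hHi hH6 f) (hone f hf) (hc7 f)
      (g := tau (Units.mk0 w hw0) 1) (C.comm_of_cj ?_) (k := w) hw0 hw1 (fun t => ?_))
    · rw [hH, B, C.cj_mul, C.cj_mul, C.cj_mul, C.cj_mul, C.cj_tau _ _ (by decide), C.cj_tau _ _ (by decide),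
        C.cj_tau _ _ (by decide), C.cj_tau _ _ (by decide), C.cj_tau _ _ (by decide), zero_div, zero_div, zero_div,
        zero_div]
      simp [co7, co6]
    · rw [tau_conj _ _ (by decide)]; simp [co7, co6]
  have h7eq : ∀ a : F, a ≠ 0 → C.e 7 a * H = C.e 7 a * (C.e 6 0 * H) := by
    intro a ha
    have e : H = ∑ f, C.e 6 f * H := by rw [← Finset.sum_mul, C.e_sum, one_mul]
    conv_lhs => rw [e, Finset.mul_sum, Finset.sum_eq_single_of_mem (0 : F) (Finset.mem_univ _)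
      (fun f _ hf => hkill a f ha hf)]
  have hf0 : Fintype.card F - 1 ≤ dm (C.e 6 0 * H) := by
    rw [C.split (r := 7) (C.e_mul_idem hHi hH6 0) (hc7 0)]
    refine le_trans ?_ (Finset.sum_le_sum_of_subset (Finset.subset_univ (Finset.univ.erase (0 : F))))
    have := Finset.card_nsmul_le_sum (Finset.univ.erase (0 : F)) (fun a => dm (C.e 7 a * (C.e 6 0 * H))) 1
      fun a ha => by
        show 1 ≤ dm _
        rw [← h7eq a (Finset.ne_of_mem_erase ha)]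
        exact C.seven_pos h3 h9 hm h6 (Finset.ne_of_mem_erase ha)
    rwa [smul_eq_mul, mul_one, Finset.card_erase_of_mem (Finset.mem_univ _), Finset.card_univ] at this
  rw [C.split hHi hH6, ← Finset.add_sum_erase _ _ (Finset.mem_univ (0 : F)),
    Finset.sum_congr rfl fun f hf => hone f (Finset.ne_of_mem_erase hf), Finset.sum_const, smul_eq_mul, mul_one,
    Finset.card_erase_of_mem (Finset.mem_univ _), Finset.card_univ]
  simp only [hH] at hf0 ⊢
  omega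

theorem dm_Cp_three : 2 * (Fintype.card F ^ 2 - 1) ≤ dm C.Cp := by
  classical
  have hδ : 1 ≤ dm (C.e 8 0 * (C.e 9 1 * C.B 0)) := by
    refine le_trans (C.zero_fix h3 h9 hm h6 one_ne_zero) (dm_le_of_mul ?_)
    rw [(C.e_comm_op (C.P_X6 h3 h9 0 1 0) 0).symm.eq, ← mul_assoc, (C.P_idem h3 h9 0 1 0).eq]
  have hs := C.split (r := 9) (P := C.B 0) (C.B_idem 0) (C.B_X9 0 0)
  rw [← Finset.add_sum_erase _ _ (Finset.mem_univ (0 : F)),
    Finset.sum_congr rfl fun s hs => C.dm_e9Cp h3 h9 (Finset.ne_of_mem_erase hs), Finset.sum_const, smul_eq_mul,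
    Finset.card_erase_of_mem (Finset.mem_univ _), Finset.card_univ,
    C.split (r := 8) (C.P9B_idem h3 h9 0 0) (C.P9B_X8 h3 h9 0 0),
    ← Finset.add_sum_erase _ _ (Finset.mem_univ (0 : F))] at hs
  have h8 := Finset.card_nsmul_le_sum (Finset.univ.erase (0 : F)) (fun b => dm (C.e 8 b * (C.e 9 0 * C.B 0)))
    (Fintype.card F) fun b hb => C.dm_eight h3 h9 hm h6 (Finset.ne_of_mem_erase hb)
  rw [smul_eq_mul, Finset.card_erase_of_mem (Finset.mem_univ _), Finset.card_univ] at h8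
  have hH := C.dm_H h3 h9 hm h6 hr
  rw [show C.Cp = C.B 0 from rfl, hs]
  obtain ⟨q, hq⟩ : ∃ q, Fintype.card F = q + 1 := ⟨Fintype.card F - 1, by omega⟩
  simp only [hq, Nat.add_sub_cancel] at hs h8 hH ⊢
  rw [show (q + 1) ^ 2 - 1 = q * q + 2 * q by rw [show (q + 1) ^ 2 = q * q + 2 * q + 1 by ring]; rfl]
  have : q * (q + 1) ≤ q * ((q + 1) * dm (C.e 8 0 * (C.e 9 1 * C.B 0))) :=
    Nat.mul_le_mul_left _ (Nat.le_mul_of_pos_right _ hδ)
  nlinarith

end Ctx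

namespace Ctx

variable (C : Ctx F V)

include C in
theorem three_lower (h3 : (3 : F) = 0) (h9 : 9 ≤ Fintype.card F) :
    Fintype.card F ^ 4 + Fintype.card F ^ 2 - 2 ≤ finrank ℂ V := by
  classical
  obtain ⟨r, hsum, h2, h89⟩ := C.e11_parts h3 (one_ne_zero (α := F))
  have hpos := C.M_pos h3 h9
  obtain ⟨m, hm⟩ : ∃ m, dm (C.e 8 0 * (C.e 9 1 * C.e 11 1)) = Fintype.card F * m :=
    ⟨_, C.T_q_dvd h3 0 1 one_ne_zero⟩
  rw [h89, hm] at hsum
  rw [hm] at hpos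
  have hm1 : 1 ≤ m := Nat.pos_of_ne_zero fun h => by simp [h] at hpos
  have ht := C.dm_total C.hcomm_one IsIdempotentElem.one
  rw [dm_one, one_mul] at ht
  obtain ⟨q, hq⟩ : ∃ q, Fintype.card F = q + 1 := ⟨Fintype.card F - 1, by omega⟩
  have hn : C.nQ 1 = (q * q + 2 * q) * m + r := by
    rw [hq, Nat.add_sub_cancel] at hsum
    refine Nat.eq_of_mul_eq_mul_left (show 0 < q + 1 by omega) (hsum.trans ?_)
    ring
  have hq2 : Fintype.card F ^ 2 - 1 = q * q + 2 * q := by rw [hq]; ring_nf; omega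
  rw [hq2, hn] at ht
  suffices (q + 1) ^ 4 + (q + 1) ^ 2 ≤ finrank ℂ V + 2 by rw [hq]; omega
  have hq8 : 8 ≤ q := by omega
  rcases Nat.lt_or_ge m 2 with hlt | hge
  · obtain rfl : m = 1 := by omega
    rw [mul_one] at hm hn ht
    rcases C.dichotomy h3 h9 hm with hd | hd
    · have hs := C.split (r := 9) (P := C.B 0) (C.B_idem 0) (C.B_X9 0 0)
      rw [← Finset.add_sum_erase _ _ (Finset.mem_univ (0 : F)),
        Finset.sum_congr rfl fun s hs => C.dm_e9Cp h3 h9 (Finset.ne_of_mem_erase hs), Finset.sum_const, smul_eq_mul,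
        Finset.card_erase_of_mem (Finset.mem_univ _), Finset.card_univ, hq, Nat.add_sub_cancel] at hs
      rw [show C.Cp = C.B 0 from rfl, hs] at ht
      have : q * ((q + 1) * 4) ≤ q * ((q + 1) * dm (C.e 8 0 * (C.e 9 1 * C.B 0))) :=
        Nat.mul_le_mul_left _ (Nat.mul_le_mul_left _ hd)
      nlinarith [Nat.zero_le ((q * q + 2 * q) * r)]
    · have hsplit := fun v hv => C.nQ_split h3 h9 hm hd (v := v) hv
      simp only [hq, Nat.add_sub_cancel, hn] at hsplit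
      obtain ⟨ρ, hρdef⟩ : ∃ ρ, ρ = dm (C.e 6 0 * (C.e 8 0 * (C.e 9 0 * C.B 1))) := ⟨_, rfl⟩
      have h1 := hsplit 1 one_ne_zero
      rw [← hρdef] at h1
      have hρ1 : 1 ≤ ρ := Nat.pos_of_ne_zero fun h => by rw [h, mul_zero, add_zero] at h1; nlinarith
      rcases Nat.lt_or_ge ρ 2 with hl | hg
      · obtain rfl : ρ = 1 := by omega
        have hr : ∀ v : F, v ≠ 0 → dm (C.e 6 0 * (C.e 8 0 * (C.e 9 0 * C.B v))) = 1 := by
          intro v hv
          have := hsplit v hv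
          rw [h1, add_right_inj] at this
          exact ((Nat.eq_of_mul_eq_mul_left (show 0 < q + 1 by omega) this)).symm
        have hD := C.dm_Cp_three h3 h9 hm hd hr
        rw [hq2] at hD
        have hr1 : r = 1 := by nlinarith
        subst hr1
        nlinarith
      · have hr2 : q + 2 ≤ r := by nlinarith
        have : (q * q + 2 * q) * (q + 2) ≤ (q * q + 2 * q) * r := Nat.mul_le_mul_left _ hr2
        nlinarith
  · have : (q * q + 2 * q) * ((q * q + 2 * q) * 2) ≤ (q * q + 2 * q) * ((q * q + 2 * q) * m + r) :=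
      Nat.mul_le_mul_left _ (by nlinarith [Nat.mul_le_mul_left (q * q + 2 * q) hge])
    nlinarith [Nat.mul_le_mul_left (q * q) (Nat.mul_le_mul hq8 hq8)]

include C in
theorem bound_three (hq : Fintype.card F % 3 = 0) (h : 3 < Fintype.card F) :
    Fintype.card F ^ 4 + Fintype.card F ^ 2 + 1 ≤ finrank ℂ V := by
  obtain ⟨p, hp⟩ := CharP.exists F
  obtain ⟨n, hpp, hc⟩ := FiniteField.card F p
  have hp3 : p = 3 := by
    have : 3 ∣ p ^ (n : ℕ) := hc ▸ Nat.dvd_of_mod_eq_zero hq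
    exact ((Nat.prime_dvd_prime_iff_eq Nat.prime_three hpp).1 (Nat.prime_three.dvd_of_dvd_pow this)).symm
  subst hp3
  have h3 : (3 : F) = 0 := by
    have := CharP.cast_eq_zero F 3
    exact_mod_cast this
  have h9 : 9 ≤ Fintype.card F := by
    rw [hc] at h ⊢
    have : 1 < (n : ℕ) := (Nat.pow_lt_pow_iff_right (by norm_num : 1 < 3)).1 (by simpa using h)
    calc 9 = 3 ^ 2 := by norm_num
      _ ≤ _ := Nat.pow_le_pow_right (by norm_num) this
  refine not_dvd_three h9 hq (fun d hd hd1 => ?_) ?_ (C.three_lower h3 h9)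
  · rw [hc] at hd
    obtain ⟨i, -, rfl⟩ := (Nat.dvd_prime_pow Nat.prime_three).1 hd
    exact dvd_pow_self 3 (fun h0 => hd1 (by rw [h0, pow_zero]))
  · haveI := C.irr
    haveI : Finite ↥(chevG2.group F) := Nat.finite_of_card_ne_zero fun h0 => by
      have e := card_groupG2 F
      rw [h0, mul_zero] at e
      have := Nat.one_lt_pow (n := 2) (by omega) (show 1 < Fintype.card F by omega)
      have := Nat.one_lt_pow (n := 6) (by omega) (show 1 < Fintype.card F by omega)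
      have : 0 < Fintype.card F ^ 6 * (Fintype.card F ^ 2 - 1) * (Fintype.card F ^ 6 - 1) :=
        Nat.mul_pos (Nat.mul_pos (pow_pos (by omega) 6) (by omega)) (by omega)
      omega
    have hd := CfsgLib.Char.degree_dvd_card C.ρ
    have e := card_groupG2 F
    rw [one_mul] at e
    rwa [e] at hd

end Ctx

end CfsgLib.Chev.G2Min
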